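import Mathlib.AlgebraicGeometry.Morphisms.UniversallyInjective
import Mathlib.AlgebraicGeometry.Morphisms.Etale
import Mathlib.AlgebraicGeometry.Morphisms.FlatMono
import Mathlib.AlgebraicGeometry.EffectiveEpi
import Mathlib.AlgebraicGeometry.Sites.Fpqc
import Mathlib.CategoryTheory.Comma.Over.Pullback
import Mathlib.FieldTheory.PurelyInseparable.Exponent
import Mathlib.FieldTheory.PurelyInseparable.PerfectClosure
import Mathlib.RingTheory.Etale.Field
import Mathlib.RingTheory.Etale.Descent

/-! Schemes étale over a field are insensitive to finite purely inseparable extensions. -/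

set_option autoImplicit false
universe u

open CategoryTheory Limits AlgebraicGeometry
open scoped TensorProduct

namespace Groth.PRedWeil

/-- The morphism of spectra given by an extension of fields. -/
noncomputable abbrev φ (k k' : Type u) [Field k] [Field k'] [Algebra k k'] :
    Spec (CommRingCat.of k') ⟶ Spec (CommRingCat.of k) :=
  Spec.map (CommRingCat.ofHom (algebraMap k k'))

instance universallyInjective_φ (k k' : Type u) [Field k] [Field k'] [Algebra k k']
    [IsPurelyInseparable k k'] : UniversallyInjective (φ k k') := by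
  refine ((tfae_universallyInjective _).out 1 0).1 ?_
  intro K _ g₁ g₂ hg
  rw [← Spec.map_preimage g₁, ← Spec.map_preimage g₂] at hg ⊢
  simp only [← Spec.map_comp] at hg
  exact congrArg Spec.map (CommRingCat.hom_ext (IsPurelyInseparable.injective_comp_algebraMap k k' K
    (congrArg CommRingCat.Hom.hom (Spec.map_injective hg))))

/-- Two morphisms to a scheme unramified over the base agree if they agree on a surjection. -/
theorem eq_of_comp_surjective {Z' W Y S : Scheme.{u}} (Δ : Z' ⟶ W) [Surjective Δ] (π : Y ⟶ S)
    [FormallyUnramified π] [LocallyOfFiniteType π] (a b : W ⟶ Y) (hab : a ≫ π = b ≫ π)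
    (h : Δ ≫ a = Δ ≫ b) : a = b := by
  let l := pullback.lift a b hab
  let s : Z' ⟶ pullback l (pullback.diagonal π) := pullback.lift Δ (Δ ≫ a) (by
    apply pullback.hom_ext
    · rw [Category.assoc, Category.assoc, Category.assoc, pullback.lift_fst, pullback.diagonal_fst,
        Category.comp_id]
    · rw [Category.assoc, Category.assoc, Category.assoc, pullback.lift_snd, pullback.diagonal_snd,
        Category.comp_id, h])
  have hs : s ≫ pullback.fst _ _ = Δ := pullback.lift_fst _ _ _
  have : Surjective (s ≫ pullback.fst l (pullback.diagonal π)) := hs ▸ ‹Surjective Δ›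
  have : Surjective (pullback.fst l (pullback.diagonal π)) := Surjective.of_comp s _
  have : IsOpenImmersion (pullback.fst l (pullback.diagonal π)) := inferInstance
  have : IsIso (pullback.fst l (pullback.diagonal π)) := by
    rw [isIso_iff_isOpenImmersion_and_epi_base]
    exact ⟨inferInstance, (TopCat.epi_iff_surjective _).2 (Scheme.Hom.surjective _)⟩
  have hc := pullback.condition (f := l) (g := pullback.diagonal π)
  have h1 := congr($hc ≫ pullback.fst π π)
  have h2 := congr($hc ≫ pullback.snd π π)
  rw [Category.assoc, Category.assoc, pullback.lift_fst, pullback.diagonal_fst,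
    Category.comp_id] at h1
  rw [Category.assoc, Category.assoc, pullback.lift_snd, pullback.diagonal_snd,
    Category.comp_id] at h2
  rw [← cancel_epi (pullback.fst l (pullback.diagonal π)), h1, h2]

variable {k k' : Type u} [Field k] [Field k'] [Algebra k k'] [Module.Finite k k']
  [IsPurelyInseparable k k']

instance : LocallyOfFiniteType (φ k k') := by
  rw [HasRingHomProperty.Spec_iff (P := @LocallyOfFiniteType)]
  exact RingHom.finiteType_algebraMap.mpr inferInstance

instance : Flat (φ k k') := by
  rw [HasRingHomProperty.Spec_iff (P := @Flat)]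
  exact RingHom.flat_algebraMap_iff.mpr inferInstance

instance : LocallyOfFinitePresentation (φ k k') := by
  rw [HasRingHomProperty.Spec_iff (P := @LocallyOfFinitePresentation)]
  exact RingHom.finitePresentation_algebraMap.mpr (Algebra.FinitePresentation.of_finiteType.mp inferInstance)

instance : Surjective (φ k k') := ⟨fun x =>
  ⟨(default : PrimeSpectrum k'), @Subsingleton.elim (PrimeSpectrum k) _ _ _⟩⟩

/-- Morphisms into a scheme unramified over `k` descend along `k'/k` purely inseparable. -/
theorem exists_descend {Z Y : Over (Spec (CommRingCat.of k))} [FormallyUnramified Y.hom]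
    [LocallyOfFiniteType Y.hom] (w : pullback Z.hom (φ k k') ⟶ Y.left)
    (hw : w ≫ Y.hom = pullback.fst Z.hom (φ k k') ≫ Z.hom) :
    ∃! g : Z ⟶ Y, pullback.fst Z.hom (φ k k') ≫ g.left = w := by
  let p := pullback.fst Z.hom (φ k k')
  have : UniversallyInjective p := MorphismProperty.pullback_fst _ _ inferInstance
  have : Surjective (pullback.diagonal p) := (UniversallyInjective.iff_diagonal p).1 ‹_›
  have key : pullback.fst p p ≫ w = pullback.snd p p ≫ w := by
    refine eq_of_comp_surjective (pullback.diagonal p) Y.hom _ _ ?_ ?_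
    · simp only [Category.assoc, hw]
      exact pullback.condition_assoc Z.hom
    · simp
  have : EffectiveEpi p := inferInstance
  have hd : ∀ {T : Scheme.{u}} (g₁ g₂ : T ⟶ pullback Z.hom (φ k k')),
      g₁ ≫ p = g₂ ≫ p → g₁ ≫ w = g₂ ≫ w := fun g₁ g₂ hg => by
    have := congr(pullback.lift g₁ g₂ hg ≫ $key)
    rwa [pullback.lift_fst_assoc, pullback.lift_snd_assoc] at this
  refine ⟨Over.homMk (EffectiveEpi.desc p w hd) ?_, ?_, ?_⟩
  · rw [← cancel_epi p, EffectiveEpi.fac_assoc]
    exact hw
  · exact EffectiveEpi.fac p w hd
  · intro g hg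
    ext
    rw [← cancel_epi p]
    exact hg.trans (EffectiveEpi.fac p w hd).symm

/-- Base change along `k'/k` is fully faithful towards schemes unramified over `k`. -/
theorem map_bijective (Z Y : Over (Spec (CommRingCat.of k))) [FormallyUnramified Y.hom]
    [LocallyOfFiniteType Y.hom] :
    Function.Bijective ((Over.pullback (φ k k')).map : (Z ⟶ Y) → _) := by
  constructor
  · intro g g' hg
    have h := congr(($hg).left ≫ pullback.fst Y.hom (φ k k'))
    simp only [Over.pullback_map_left, pullback.lift_fst] at h
    obtain ⟨_, -, huniq⟩ := exists_descend (Z := Z) (Y := Y) (pullback.fst Z.hom (φ k k') ≫ g.left)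
      (by simp)
    exact (huniq g rfl).trans (huniq g' h.symm).symm
  · intro f
    have hw : (f.left ≫ pullback.fst Y.hom (φ k k')) ≫ Y.hom =
        pullback.fst Z.hom (φ k k') ≫ Z.hom := by
      rw [Category.assoc, pullback.condition, pullback.condition, ← Category.assoc]
      exact congrArg (· ≫ φ k k') (Over.w f)
    obtain ⟨g, hg, -⟩ := exists_descend _ hw
    refine ⟨g, ?_⟩
    ext
    apply pullback.hom_ext
    · exact (pullback.lift_fst _ _ _).trans hg
    · exact (pullback.lift_snd _ _ _).trans (Over.w f).symm

/-- The unit of a Weil restriction of a base-changed unramified scheme is an isomorphism. -/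
theorem isIso_unit (Y : Over (Spec (CommRingCat.of k))) [FormallyUnramified Y.hom]
    [LocallyOfFiniteType Y.hom] (R : Over (Spec (CommRingCat.of k)))
    (e : ∀ Z : Over (Spec (CommRingCat.of k)),
      (Z ⟶ R) ≃ ((Over.pullback (φ k k')).obj Z ⟶ (Over.pullback (φ k k')).obj Y))
    (he : ∀ (Z W : Over (Spec (CommRingCat.of k))) (h : Z ⟶ W) (g : W ⟶ R),
      e Z (h ≫ g) = (Over.pullback (φ k k')).map h ≫ e W g) :
    IsIso ((e Y).symm (𝟙 _)) := by
  set j := (e Y).symm (𝟙 _) with hj
  have hcomp : ∀ (Z : Over (Spec (CommRingCat.of k))) (g : Z ⟶ Y),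
      g ≫ j = (e Z).symm ((Over.pullback (φ k k')).map g) := fun Z g => by
    rw [Equiv.eq_symm_apply, he, hj, Equiv.apply_symm_apply, Category.comp_id]
  have hb : ∀ Z : Over (Spec (CommRingCat.of k)), Function.Bijective fun g : Z ⟶ Y => g ≫ j :=
    fun Z => by
      simp only [hcomp]
      exact (e Z).symm.bijective.comp (map_bijective Z Y)
  obtain ⟨i, hi⟩ := (hb R).2 (𝟙 R)
  exact ⟨i, (hb Y).1 (by simp only at hi ⊢; simp [hi]), hi⟩

omit [Module.Finite k k'] [IsPurelyInseparable k k'] in
/-- The `q`-th powers span an étale algebra over a field, `q` a power of the exponential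
characteristic. -/
theorem span_pow_eq_top (A : Type u) [CommRing A] [Algebra k' A] [Algebra.Etale k' A] (p : ℕ)
    [ExpChar k' p] (n : ℕ) {ι : Type*} {v : ι → A}
    (hv : Submodule.span k' (Set.range v) = ⊤) :
    Submodule.span k' (Set.range (v · ^ p ^ n)) = ⊤ := by
  classical
  obtain ⟨I, _, L, _, _, σ, hL⟩ := (Algebra.Etale.iff_exists_algEquiv_prod k' A).mp ‹Algebra.Etale k' A›
  have := Fintype.ofFinite I
  rw [eq_top_iff]
  intro a _
  obtain _ | hne := isEmpty_or_nonempty I
  · have : Subsingleton A := σ.toEquiv.subsingleton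
    rw [Subsingleton.elim a 0]
    exact zero_mem _
  have hq : p ^ n ≠ 0 := (pow_pos (expChar_pos k' p) n).ne'
  -- the powers of all elements lie in the span
  have hp : ∀ b : A, b ^ p ^ n ∈ Submodule.span k' (Set.range (v · ^ p ^ n)) := fun b => by
    have hb : b ∈ Submodule.span k' (Set.range v) := hv ▸ Submodule.mem_top
    have := expChar_of_injective_algebraMap (algebraMap k' (L hne.some)).injective p
    have : Nontrivial (∀ i, L i) := Pi.nontrivial_at hne.some
    have : Nontrivial A := σ.toEquiv.nontrivial
    have := expChar_of_injective_algebraMap (algebraMap k' A).injective p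
    induction hb using Submodule.span_induction with
    | mem x hx => obtain ⟨i, rfl⟩ := hx; exact Submodule.subset_span ⟨i, rfl⟩
    | zero => simp [zero_pow hq]
    | add x y _ _ hx hy => rw [add_pow_expChar_pow]; exact add_mem hx hy
    | smul c x _ hx => rw [smul_pow]; exact Submodule.smul_mem _ _ hx
  have hs : ∀ i, ∀ x : L i, ∃ b ∈ Submodule.span k' (Set.range (v · ^ p ^ n)),
      σ b = Pi.single i x := by
    intro i x
    have := (hL i).2
    have htop : x ∈ Submodule.span k' (Set.range fun y : L i => id y ^ p ^ n) := by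
      rw [Field.span_map_pow_expChar_pow_eq_top_of_isSeparable (F := k') (E := L i) p n
        (v := id) (by simp)]
      trivial
    induction htop using Submodule.span_induction with
    | mem y hy =>
      obtain ⟨z, rfl⟩ := hy
      refine ⟨σ.symm (Pi.single i z) ^ p ^ n, hp _, ?_⟩
      rw [map_pow, σ.apply_symm_apply]
      ext j
      obtain rfl | hj := eq_or_ne j i
      · simp
      · simp [Pi.single_eq_of_ne hj, zero_pow hq]
    | zero => exact ⟨0, zero_mem _, by simp⟩
    | add y z _ _ hy hz =>
      obtain ⟨b, hb, hb'⟩ := hy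
      obtain ⟨c, hc, hc'⟩ := hz
      exact ⟨b + c, add_mem hb hc, by rw [map_add, hb', hc', Pi.single_add]⟩
    | smul c y _ hy =>
      obtain ⟨b, hb, hb'⟩ := hy
      exact ⟨c • b, Submodule.smul_mem _ _ hb, by rw [map_smul, hb', Pi.single_smul]⟩
  choose b hb hσ using hs
  have : a = ∑ i, b i (σ a i) := σ.injective (by
    simp only [map_sum, hσ, Finset.univ_sum_single])
  rw [this]
  exact sum_mem fun i _ => hb i _

/-- An étale algebra over a purely inseparable finite extension descends. -/
theorem exists_descend_algebra (A' : Type u) [CommRing A'] [Algebra k' A']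
    [Algebra.Etale k' A'] [Module.Finite k' A'] :
    ∃ (A : Type u) (_ : CommRing A) (_ : Algebra k A) (_ : Module.Finite k A)
      (_ : Algebra.Etale k A), Nonempty (k' ⊗[k] A ≃ₐ[k'] A') := by
  classical
  algebraize [(algebraMap k' A').comp (algebraMap k k')]
  set p := ringExpChar k
  set n := IsPurelyInseparable.exponent k k'
  have : ExpChar k' p := expChar_of_injective_algebraMap (algebraMap k k').injective p
  let b := Module.Free.chooseBasis k' A'
  let w := fun i => b i ^ p ^ n
  have hspan : Submodule.span k' (Set.range w) = ⊤ := span_pow_eq_top A' p n b.span_eq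
  have hli : LinearIndependent k' w := linearIndependent_of_top_le_span_of_card_eq_finrank hspan.ge
    (Module.finrank_eq_card_basis b).symm
  let T : Set A' := (fun a => a ^ p ^ n) '' Set.univ
  let A : Subalgebra k A' := Algebra.adjoin k T
  let S := Submodule.span k (Set.range w)
  have hpow : ∀ a : A', a ^ p ^ n ∈ S := fun a => by
    obtain _ | _ := subsingleton_or_nontrivial A'
    · rw [Subsingleton.elim (a ^ p ^ n) 0]; exact zero_mem _
    have := expChar_of_injective_algebraMap (algebraMap k' A').injective p
    rw [← b.sum_repr a, sum_pow_char_pow]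
    refine sum_mem fun i _ => ?_
    obtain ⟨c, hc⟩ := IsPurelyInseparable.exponent_def' k (L := k') p (b.repr a i)
    rw [smul_pow, ← hc, algebraMap_smul]
    exact Submodule.smul_mem _ _ (Submodule.subset_span ⟨i, rfl⟩)
  have hAS : Subalgebra.toSubmodule A = S := by
    refine le_antisymm ?_ (Submodule.span_le.mpr ?_)
    · rw [Algebra.adjoin_eq_span, Submodule.span_le]
      intro x hx
      have : x ∈ MonoidHom.mrange (powMonoidHom (α := A') (p ^ n)) := by
        refine (Submonoid.closure_le.mpr ?_) hx
        rintro _ ⟨a, -, rfl⟩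
        exact ⟨a, rfl⟩
      obtain ⟨a, rfl⟩ := this
      exact hpow a
    · rintro _ ⟨i, rfl⟩
      exact Algebra.subset_adjoin ⟨b i, trivial, rfl⟩
  have hwA : ∀ i, w i ∈ A := fun i => Algebra.subset_adjoin ⟨b i, trivial, rfl⟩
  have hliA : LinearIndependent k (fun i => (⟨w i, hwA i⟩ : A)) :=
    LinearIndependent.of_comp A.val.toLinearMap (hli.restrict_scalars
      (fun c d h => (algebraMap k k').injective (by simpa [Algebra.smul_def] using h)))
  have htop : ⊤ ≤ Submodule.span k (Set.range fun i => (⟨w i, hwA i⟩ : A)) := by
    intro x _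
    have hx : (x : A') ∈ S := hAS ▸ x.2
    have : A.val.toLinearMap x ∈ (Submodule.span k (Set.range fun i => (⟨w i, hwA i⟩ : A))).map
        A.val.toLinearMap := by
      rw [Submodule.map_span, ← Set.range_comp]
      exact hx
    obtain ⟨y, hy, hxy⟩ := this
    exact (Subtype.ext hxy : y = x) ▸ hy
  let bA := Module.Basis.mk hliA htop
  have hfin : Module.Finite k A := Module.Finite.of_basis bA
  let f : k' ⊗[k] A →ₐ[k'] A' := Algebra.TensorProduct.lift (Algebra.ofId k' A') A.val
    fun _ _ => Commute.all _ _
  let bt := bA.baseChange k'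
  let bw := Module.Basis.mk hli hspan.ge
  have hf : f.toLinearMap = (bt.equiv bw (Equiv.refl _)).toLinearMap := by
    refine bt.ext fun i => ?_
    rw [LinearEquiv.coe_coe, Module.Basis.equiv_apply]
    simp [f, bt, bA, bw]
  have hbij : Function.Bijective f := by
    have h : ⇑f = ⇑(bt.equiv bw (Equiv.refl _)) := congrArg DFunLike.coe hf
    rw [h]
    exact LinearEquiv.bijective _
  let ef := AlgEquiv.ofBijective f hbij
  have : Algebra.Etale k' (k' ⊗[k] A) := Algebra.Etale.of_equiv ef.symm
  exact ⟨A, inferInstance, inferInstance, hfin,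
    Algebra.Etale.of_etale_tensorProduct_of_faithfullyFlat k', ⟨ef⟩⟩

end Groth.PRedWeil
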