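import Mathlib.RingTheory.Smooth.Basic
import Mathlib.RingTheory.RingHom.Smooth
import Mathlib.RingTheory.Spectrum.Prime.RingHom
import Mathlib.RingTheory.Jacobson.Ring
import Mathlib.RingTheory.Artinian.Ring
import Mathlib.FieldTheory.IsAlgClosed.Basic
import Mathlib.FieldTheory.IsAlgClosed.AlgebraicClosure
import Mathlib.LinearAlgebra.TensorProduct.RightExactness

/-! Weil restriction of algebras: the universal map is formally smooth and surjective on spectra. -/

set_option autoImplicit false
universe u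

open scoped TensorProduct
set_option maxHeartbeats 1000000
open Algebra

namespace Groth.PRedWeil

variable {B B' : Type u} [CommRing B] [CommRing B'] [Algebra B B']

/-- Base change of an algebra map to `B'`. -/
noncomputable abbrev bmap {W C : Type u} [CommRing W] [Algebra B W] [CommRing C] [Algebra B C]
    (ω : W →ₐ[B] C) : B' ⊗[B] W →ₐ[B'] B' ⊗[B] C :=
  Algebra.TensorProduct.map (AlgHom.id B' B') ω

variable {A W : Type u} [CommRing A] [Algebra B' A] [CommRing W] [Algebra B W]

/-- `β₀` makes `W` a Weil restriction of the `B'`-algebra `A`. -/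
def IsUniv (β₀ : A →ₐ[B'] B' ⊗[B] W) : Prop :=
  ∀ (C : Type u) [CommRing C] [Algebra B C],
    Function.Bijective fun ω : W →ₐ[B] C => (bmap ω).comp β₀

theorem bmap_comp {C D : Type u} [CommRing C] [Algebra B C] [CommRing D] [Algebra B D]
    (ω : W →ₐ[B] C) (g : C →ₐ[B] D) : bmap (B' := B') (g.comp ω) = (bmap g).comp (bmap ω) := by
  refine Algebra.TensorProduct.ext' fun b w => ?_
  simp [bmap]

/-- Multiplication `B' ⊗ C → C`. -/
noncomputable def mulHom (C : Type u) [CommRing C] [Algebra B' C] [Algebra B C]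
    [IsScalarTower B B' C] : B' ⊗[B] C →ₐ[B'] C :=
  Algebra.TensorProduct.lift (Algebra.ofId B' C) (AlgHom.id B C) fun _ _ => Commute.all _ _

@[simp]
theorem mulHom_tmul {C : Type u} [CommRing C] [Algebra B' C] [Algebra B C]
    [IsScalarTower B B' C] (b : B') (c : C) : mulHom C (b ⊗ₜ[B] c) = b • c := by
  simp [mulHom, Algebra.smul_def, Algebra.ofId_apply]

variable {β₀ : A →ₐ[B'] B' ⊗[B] W}

omit [Algebra B B'] in
/-- Formally smooth algebras lift maps into the range of a map with nilpotent kernel. -/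
theorem exists_lift_of_mem_range [Algebra.FormallySmooth B' A] {P Q : Type u} [CommRing P]
    [CommRing Q] [Algebra B' P] [Algebra B' Q] (Ψ : P →ₐ[B'] Q) (pair : A →ₐ[B'] Q)
    (hmem : ∀ x, pair x ∈ Ψ.range) (hnil : IsNilpotent (RingHom.ker Ψ)) :
    ∃ h : A →ₐ[B'] P, ∀ x, Ψ (h x) = pair x := by
  have hker : IsNilpotent (RingHom.ker (Ψ.rangeRestrict : P →+* Ψ.range)) := by
    have : RingHom.ker (Ψ.rangeRestrict : P →+* Ψ.range) = RingHom.ker Ψ := by
      ext z
      rw [RingHom.mem_ker, RingHom.mem_ker]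
      exact Subtype.ext_iff
    rwa [this]
  exact ⟨Algebra.FormallySmooth.liftOfSurjective (pair.codRestrict Ψ.range hmem) Ψ.rangeRestrict
    Ψ.rangeRestrict_surjective hker, fun x => congrArg Subtype.val
      (Algebra.FormallySmooth.liftOfSurjective_apply (pair.codRestrict Ψ.range hmem) Ψ.rangeRestrict
        Ψ.rangeRestrict_surjective hker x)⟩

/-- The universal map of a Weil restriction of a formally smooth algebra is formally smooth. -/
theorem IsUniv.formallySmooth (hβ : IsUniv β₀) [Algebra.FormallySmooth B' A] :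
    β₀.toRingHom.FormallySmooth := by
  let : Algebra A (B' ⊗[B] W) := β₀.toRingHom.toAlgebra
  have : IsScalarTower B' A (B' ⊗[B] W) :=
    .of_algebraMap_eq fun x => (β₀.commutes x).symm
  refine Algebra.FormallySmooth.of_comp_surjective fun C _ _ I hI g => ?_
  let : Algebra B' C := ((algebraMap A C).comp (algebraMap B' A)).toAlgebra
  have : IsScalarTower B' A C := .of_algebraMap_eq' rfl
  let : Algebra B C := ((algebraMap B' C).comp (algebraMap B B')).toAlgebra
  have : IsScalarTower B B' C := .of_algebraMap_eq' rfl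
  let g' : B' ⊗[B] W →ₐ[B'] C ⧸ I := g.restrictScalars B'
  let ωb : W →ₐ[B] C ⧸ I :=
    (g'.restrictScalars B).comp (Algebra.TensorProduct.includeRight : W →ₐ[B] B' ⊗[B] W)
  let π : B' ⊗[B] C →ₐ[B'] B' ⊗[B] (C ⧸ I) := bmap (Ideal.Quotient.mkₐ B I)
  have hπs : Function.Surjective π :=
    Algebra.TensorProduct.map_surjective _ _ Function.surjective_id Ideal.Quotient.mk_surjective
  have hπk : RingHom.ker π ^ 2 = ⊥ := by
    have h := Algebra.TensorProduct.lTensor_ker (A := B') (Ideal.Quotient.mkₐ B I)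
      Ideal.Quotient.mk_surjective
    have hk : RingHom.ker (Ideal.Quotient.mkₐ B I) = I := Ideal.mk_ker
    rw [hk] at h
    change RingHom.ker (Algebra.TensorProduct.map (AlgHom.id B B') (Ideal.Quotient.mkₐ B I)) ^ 2 = ⊥
    rw [h, ← Ideal.map_pow, hI, Ideal.map_bot]
  let Ψ : B' ⊗[B] C →ₐ[B'] C × (B' ⊗[B] (C ⧸ I)) := (mulHom C).prod π
  let hb : A →ₐ[B'] B' ⊗[B] (C ⧸ I) := (bmap ωb).comp β₀
  let pair : A →ₐ[B'] C × (B' ⊗[B] (C ⧸ I)) := (IsScalarTower.toAlgHom B' A C).prod hb
  have hμωb : (mulHom (C ⧸ I)).comp (bmap ωb) = g' := by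
    refine Algebra.TensorProduct.ext' fun b w => ?_
    simp only [AlgHom.comp_apply, bmap, Algebra.TensorProduct.map_tmul, AlgHom.id_apply,
      mulHom_tmul]
    show b • g' (1 ⊗ₜ w) = _
    rw [← map_smul, TensorProduct.smul_tmul', smul_eq_mul, mul_one]
  have hμπ : ∀ z, mulHom (C ⧸ I) (π z) = Ideal.Quotient.mk I (mulHom C z) := by
    intro z
    induction z using TensorProduct.induction_on with
    | zero => simp
    | tmul b c =>
      simp only [π, bmap, Algebra.TensorProduct.map_tmul, AlgHom.id_apply, mulHom_tmul,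
        Ideal.Quotient.mkₐ_eq_mk]
      exact (map_smul (Ideal.Quotient.mkₐ B' I) b c).symm
    | add x y hx hy => simp [map_add, hx, hy]
  have hmem : ∀ x, pair x ∈ Ψ.range := by
    intro x
    obtain ⟨z, hz⟩ := hπs (hb x)
    have hd : algebraMap A C x - mulHom C z ∈ I := by
      rw [← Ideal.Quotient.eq_zero_iff_mem, map_sub, ← hμπ, hz]
      show _ - mulHom (C ⧸ I) (bmap ωb (β₀ x)) = 0
      rw [← AlgHom.comp_apply, hμωb, sub_eq_zero]
      exact (g.commutes x).symm
    refine ⟨z + 1 ⊗ₜ (algebraMap A C x - mulHom C z), Prod.ext ?_ ?_⟩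
    · show mulHom C _ = algebraMap A C x
      rw [map_add, mulHom_tmul, one_smul, add_sub_cancel]
    · show π _ = hb x
      rw [map_add, hz, add_eq_left]
      simp only [π, bmap, Algebra.TensorProduct.map_tmul, Ideal.Quotient.mkₐ_eq_mk,
        Ideal.Quotient.eq_zero_iff_mem.mpr hd, TensorProduct.tmul_zero]
  have hker : ∀ z, Ψ z = 0 → z ∈ RingHom.ker π := fun z hz => congrArg Prod.snd hz
  obtain ⟨h, hh⟩ := exists_lift_of_mem_range Ψ pair hmem ⟨2, le_bot_iff.mp
    (le_trans (Ideal.pow_right_mono (fun z hz => hker z hz) 2) hπk.le)⟩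
  obtain ⟨ω, hω⟩ := (hβ C).2 h
  have hωb : (Ideal.Quotient.mkₐ B I).comp ω = ωb := by
    refine (hβ (C ⧸ I)).1 (AlgHom.ext fun x => ?_)
    show bmap ((Ideal.Quotient.mkₐ B I).comp ω) (β₀ x) = hb x
    rw [bmap_comp]
    show π (((bmap ω).comp β₀) x) = _
    rw [show (bmap ω).comp β₀ = h from hω]
    exact congrArg Prod.snd (hh x)
  let G : B' ⊗[B] W →ₐ[A] C :=
    { toRingHom := ((mulHom C).comp (bmap ω)).toRingHom
      commutes' := fun x => by
        show mulHom C (((bmap ω).comp β₀) x) = _
        rw [show (bmap ω).comp β₀ = h from hω]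
        exact congrArg Prod.fst (hh x) }
  refine ⟨G, AlgHom.ext fun z => ?_⟩
  show Ideal.Quotient.mk I (mulHom C (bmap ω z)) = g z
  rw [← hμπ]
  show mulHom (C ⧸ I) ((bmap (Ideal.Quotient.mkₐ B I)).comp (bmap ω) z) = g' z
  rw [← bmap_comp, hωb, ← hμωb]
  rfl

/-- A point of a surjective smooth algebra over a finite algebra of an algebraically closed field
lifts. -/
theorem exists_lift_algHom (K C : Type u) [Field K] [IsAlgClosed K] [CommRing C] [Algebra K C]
    [Module.Finite K C] [Algebra B' C] [Algebra.FormallySmooth B' A] [Algebra.FiniteType B' A]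
    (hs : Function.Surjective (PrimeSpectrum.comap (algebraMap B' A)))
    (μ : C →ₐ[K] K) [Algebra B' K] (hμ : ∀ b, μ (algebraMap B' C b) = algebraMap B' K b)
    (a : A →ₐ[B'] K) : ∃ h : A →ₐ[B'] C, ∀ x, μ (h x) = a x := by
  classical
  have : IsArtinianRing C := IsArtinianRing.of_finite K C
  let μ' : C →ₐ[B'] K := { toRingHom := μ.toRingHom, commutes' := hμ }
  have hμs : Function.Surjective μ' := fun c => ⟨algebraMap K C c, μ.commutes c⟩
  have hm₀ : (RingHom.ker μ').IsMaximal :=
    RingHom.ker_isMaximal_of_surjective μ'.toRingHom hμs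
  have hex : ∀ m : MaximalSpectrum C, ∃ φ : A →ₐ[B'] C ⧸ m.asIdeal,
      m.asIdeal = RingHom.ker μ' → ∀ x, ∀ c, Ideal.Quotient.mk m.asIdeal c = φ x → μ c = a x := by
    intro m
    by_cases hm : m.asIdeal = RingHom.ker μ'
    · let e := Ideal.quotientKerAlgEquivOfSurjective hμs
      refine ⟨(Ideal.quotientEquivAlgOfEq B' hm.symm).toAlgHom.comp
        (e.symm.toAlgHom.comp a), fun _ x c hc => ?_⟩
      obtain ⟨c', hc'⟩ := hμs (a x)
      have h1 : e.symm (a x) = Ideal.Quotient.mk _ c' := by
        rw [AlgEquiv.symm_apply_eq, ← hc']; rfl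
      rw [← hc']
      change Ideal.Quotient.mk m.asIdeal c = Ideal.quotientEquivAlgOfEq B' hm.symm (e.symm (a x)) at hc
      rw [h1] at hc
      have h2 : c - c' ∈ m.asIdeal := Ideal.Quotient.eq.mp hc
      rw [hm, RingHom.mem_ker, map_sub, sub_eq_zero] at h2
      exact h2
    · let L := C ⧸ m.asIdeal
      let : Field L := Ideal.Quotient.field _
      have : Module.Finite K L :=
        Module.Finite.of_surjective (Ideal.Quotient.mkₐ K m.asIdeal).toLinearMap
          Ideal.Quotient.mk_surjective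
      have hKL : Function.Bijective (algebraMap K L) :=
        IsAlgClosed.algebraMap_bijective_of_isIntegral
      have : IsAlgClosed L := IsAlgClosed.of_ringEquiv K L (RingEquiv.ofBijective _ hKL)
      let P := RingHom.ker (algebraMap B' L)
      have : P.IsPrime := RingHom.ker_isPrime _
      let κ := P.ResidueField
      let f : κ →+* L := Ideal.ResidueField.lift P (algebraMap B' L) le_rfl fun x hx =>
        isUnit_iff_ne_zero.mpr hx
      let : Algebra κ L := f.toAlgebra
      have : IsScalarTower B' κ L := .of_algebraMap_eq fun b =>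
        (Ideal.ResidueField.lift_algebraMap (I := P) (algebraMap B' L) _ _ b).symm
      have : Nontrivial (κ ⊗[B'] A) :=
        (PrimeSpectrum.nontrivial_iff_mem_rangeComap (⟨P, inferInstance⟩ : PrimeSpectrum B')).mpr
          (hs _)
      have : Nontrivial (L ⊗[κ] (κ ⊗[B'] A)) :=
        (Algebra.TensorProduct.includeRight_injective (R := κ) (A := L) (B := κ ⊗[B'] A)
          (RingHom.injective _)).nontrivial
      have : Nontrivial (L ⊗[B'] A) :=
        (Algebra.TensorProduct.cancelBaseChange B' κ L L A).symm.toEquiv.nontrivial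
      obtain ⟨n, hn⟩ := Ideal.exists_maximal (L ⊗[B'] A)
      let F := (L ⊗[B'] A) ⧸ n
      let : Field F := Ideal.Quotient.field n
      have : Module.Finite L F := finite_of_finite_type_of_isJacobsonRing L F
      have hLF : Function.Bijective (algebraMap L F) :=
        IsAlgClosed.algebraMap_bijective_of_isIntegral
      let e : L ≃ₐ[L] F := AlgEquiv.ofBijective (Algebra.ofId L F) hLF
      exact ⟨((e.symm.toAlgHom.comp (Ideal.Quotient.mkₐ L n)).restrictScalars B').comp
        Algebra.TensorProduct.includeRight, fun h => absurd h hm⟩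
  choose φ hφ using hex
  let Φ : C →ₐ[B'] ∀ m : MaximalSpectrum C, C ⧸ m.asIdeal :=
    AlgHom.pi fun m => Ideal.Quotient.mkₐ B' m.asIdeal
  have hco : Pairwise (Function.onFun IsCoprime fun m : MaximalSpectrum C => m.asIdeal) :=
    fun i j hij => Ideal.isCoprime_iff_sup_eq.mpr
      (i.isMaximal.coprime_of_ne j.isMaximal fun h => hij (MaximalSpectrum.ext h))
  have hΦs : Function.Surjective Φ := fun x => by
    obtain ⟨r, hr⟩ := Ideal.pi_quotient_surjective hco x
    exact ⟨r, funext hr⟩
  have hΦk : IsNilpotent (RingHom.ker (Φ : C →+* ∀ m : MaximalSpectrum C, C ⧸ m.asIdeal)) := by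
    obtain ⟨n, hn⟩ := IsArtinianRing.isNilpotent_jacobson_bot (R := C)
    refine ⟨n, le_bot_iff.mp (le_trans (Ideal.pow_right_mono (fun c hc => ?_) n) hn.le)⟩
    rw [Ideal.jacobson, Ideal.mem_sInf]
    rintro J ⟨-, hJ⟩
    rw [RingHom.mem_ker] at hc
    exact Ideal.Quotient.eq_zero_iff_mem.mp (congrFun hc ⟨J, hJ⟩)
  let ρ : A →ₐ[B'] ∀ m : MaximalSpectrum C, C ⧸ m.asIdeal := AlgHom.pi φ
  refine ⟨Algebra.FormallySmooth.liftOfSurjective ρ Φ hΦs hΦk, fun x => ?_⟩
  exact hφ ⟨RingHom.ker μ', hm₀⟩ rfl x _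
    (congrFun (Algebra.FormallySmooth.liftOfSurjective_apply ρ Φ hΦs hΦk x) _)

/-- The universal map of a Weil restriction along a finite algebra is surjective on spectra. -/
theorem IsUniv.surjective_comap (hβ : IsUniv β₀) [Module.Finite B B']
    [Algebra.FormallySmooth B' A] [Algebra.FiniteType B' A]
    (hs : Function.Surjective (PrimeSpectrum.comap (algebraMap B' A))) :
    Function.Surjective (PrimeSpectrum.comap β₀.toRingHom) := by
  intro x
  let K := AlgebraicClosure x.asIdeal.ResidueField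
  let a : A →ₐ[B'] K := IsScalarTower.toAlgHom B' A K
  let : Algebra B K := ((algebraMap B' K).comp (algebraMap B B')).toAlgebra
  have : IsScalarTower B B' K := .of_algebraMap_eq' rfl
  let C := B' ⊗[B] K
  let : Algebra K C :=
    (Algebra.TensorProduct.includeRight : K →ₐ[B] C).toRingHom.toAlgebra
  have : Module.Finite K C := by
    have h : Module.Finite K (K ⊗[B] B') := inferInstance
    let e : (K ⊗[B] B') ≃ₐ[K] C := AlgEquiv.ofRingEquiv
      (f := (Algebra.TensorProduct.comm B K B').toRingEquiv) fun c => by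
      show Algebra.TensorProduct.comm B K B' (c ⊗ₜ 1) = _
      rfl
    exact Module.Finite.equiv e.toLinearEquiv
  let μ : C →ₐ[K] K :=
    { toRingHom := (mulHom K : C →ₐ[B'] K).toRingHom
      commutes' := fun c => by
        show mulHom K ((1 : B') ⊗ₜ[B] c) = c
        simp }
  obtain ⟨h, hh⟩ := exists_lift_algHom (A := A) (B' := B') K C hs μ
    (fun b => (mulHom K : C →ₐ[B'] K).commutes b) a
  obtain ⟨ω, hω⟩ := (hβ K).2 h
  let G : B' ⊗[B] W →+* K := ((mulHom K).comp (bmap ω)).toRingHom
  refine ⟨⟨RingHom.ker G, RingHom.ker_isPrime G⟩, PrimeSpectrum.ext ?_⟩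
  show (RingHom.ker G).comap β₀.toRingHom = x.asIdeal
  ext y
  rw [Ideal.mem_comap, RingHom.mem_ker]
  show mulHom K (((bmap ω).comp β₀) y) = 0 ↔ _
  rw [show (bmap ω).comp β₀ = h from hω, show mulHom K (h y) = μ (h y) from rfl, hh]
  show algebraMap A K y = 0 ↔ _
  rw [IsScalarTower.algebraMap_apply A x.asIdeal.ResidueField K]
  rw [map_eq_zero]
  exact Ideal.algebraMap_residueField_eq_zero

end Groth.PRedWeil
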