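import Groth.Agent.PRedWeil.Rep
import Groth.Agent.PRedWeil.Univ
import Mathlib.AlgebraicGeometry.Morphisms.Smooth

/-! The algebra of a Weil restriction between affine schemes. -/

set_option autoImplicit false
universe u

open CategoryTheory Limits AlgebraicGeometry
open scoped TensorProduct

namespace Groth.PRedWeil

/-- The spectrum of an algebra over the base. -/
noncomputable abbrev specOver (B C : Type u) [CommRing B] [CommRing C] [Algebra B C] :
    Over (Spec (CommRingCat.of B)) :=
  Over.mk (Spec.map (CommRingCat.ofHom (algebraMap B C)))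

/-- The base change map. -/
noncomputable abbrev φR (B B' : Type u) [CommRing B] [CommRing B'] [Algebra B B'] :
    Spec (CommRingCat.of B') ⟶ Spec (CommRingCat.of B) :=
  Spec.map (CommRingCat.ofHom (algebraMap B B'))

/-- A morphism of spectra over the base comes from a unique algebra map. -/
theorem specOverHom_bijective (B C D : Type u) [CommRing B] [CommRing C] [CommRing D] [Algebra B C]
    [Algebra B D] :
    Function.Bijective fun ω : C →ₐ[B] D =>
      (Over.homMk (Spec.map (CommRingCat.ofHom ω.toRingHom)) (by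
        show _ ≫ Spec.map _ = Spec.map _
        rw [← Spec.map_comp, ← CommRingCat.ofHom_comp]; congr 2; exact RingHom.ext ω.commutes) :
          specOver B D ⟶ specOver B C) := by
  constructor
  · intro ω ω' h
    have := Spec.map_injective (congrArg (fun z => z.left) h)
    exact AlgHom.ext fun x => congr(($this).hom x)
  · intro g
    let ψ := Spec.preimage g.left
    have hψ : CommRingCat.ofHom (algebraMap B C) ≫ ψ = CommRingCat.ofHom (algebraMap B D) := by
      apply Spec.map_injective
      rw [Spec.map_comp, Spec.map_preimage]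
      exact Over.w g
    refine ⟨⟨ψ.hom, fun b => congr(($hψ).hom b)⟩, Over.OverMorphism.ext ?_⟩
    exact Spec.map_preimage _

variable (B B' : Type u) [CommRing B] [CommRing B'] [Algebra B B']

/-- `Spec C ×_B Spec B' ≅ Spec (B' ⊗ C)`. -/
noncomputable def bcIso (C : Type u) [CommRing C] [Algebra B C] :
    (Over.pullback (φR B B')).obj (specOver B C) ≅ specOver B' (B' ⊗[B] C) :=
  Over.isoMk (pullbackSymmetry _ _ ≪≫ pullbackSpecIso B B' C) (by
    show ((pullbackSymmetry _ _).hom ≫ (pullbackSpecIso B B' C).hom) ≫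
      Spec.map (CommRingCat.ofHom Algebra.TensorProduct.includeLeftRingHom) =
      pullback.snd _ (φR B B')
    rw [Category.assoc]
    erw [pullbackSpecIso_hom_fst]
    exact pullbackSymmetry_hom_comp_fst _ _)

variable {B B'}

theorem bcIso_inv_fst (C : Type u) [CommRing C] [Algebra B C] :
    (bcIso B B' C).inv.left ≫
        pullback.fst (Spec.map (CommRingCat.ofHom (algebraMap B C))) (φR B B') =
      Spec.map (CommRingCat.ofHom
        (Algebra.TensorProduct.includeRight : C →ₐ[B] B' ⊗[B] C).toRingHom) := by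
  show ((pullbackSpecIso B B' C).inv ≫ (pullbackSymmetry _ _).inv) ≫ _ = _
  rw [Category.assoc]
  erw [pullbackSymmetry_inv_comp_fst]
  exact pullbackSpecIso_inv_snd B B' C

theorem bcIso_inv_snd (C : Type u) [CommRing C] [Algebra B C] :
    (bcIso B B' C).inv.left ≫
        pullback.snd (Spec.map (CommRingCat.ofHom (algebraMap B C))) (φR B B') =
      Spec.map (CommRingCat.ofHom (algebraMap B' (B' ⊗[B] C))) := by
  show ((pullbackSpecIso B B' C).inv ≫ (pullbackSymmetry _ _).inv) ≫ _ = _
  rw [Category.assoc]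
  erw [pullbackSymmetry_inv_comp_snd]
  exact pullbackSpecIso_inv_fst B B' C

theorem bcIso_inv_map {C D : Type u} [CommRing C] [Algebra B C] [CommRing D] [Algebra B D]
    (ω : C →ₐ[B] D) (g : specOver B D ⟶ specOver B C)
    (hg : g.left = Spec.map (CommRingCat.ofHom ω.toRingHom)) :
    (bcIso B B' D).inv.left ≫ ((Over.pullback (φR B B')).map g).left =
      Spec.map (CommRingCat.ofHom (bmap (B' := B') ω).toRingHom) ≫ (bcIso B B' C).inv.left := by
  refine pullback.hom_ext ((Category.assoc _ _ _).trans ?_) ((Category.assoc _ _ _).trans ?_)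
  · refine (congrArg ((bcIso B B' D).inv.left ≫ ·) (pullback.lift_fst _ _ _)).trans ?_
    refine ((Category.assoc _ _ _).symm.trans (congrArg (· ≫ g.left) (bcIso_inv_fst D))).trans ?_
    refine Eq.trans ?_ ((congrArg (Spec.map (CommRingCat.ofHom (bmap (B' := B') ω).toRingHom) ≫ ·)
      (bcIso_inv_fst C)).symm.trans (Category.assoc _ _ _).symm)
    rw [hg, ← Spec.map_comp, ← Spec.map_comp]
    congr 1
  · refine (congrArg ((bcIso B B' D).inv.left ≫ ·) (pullback.lift_snd _ _ _)).trans ?_
    refine (bcIso_inv_snd D).trans ?_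
    refine Eq.trans ?_ ((congrArg (Spec.map (CommRingCat.ofHom (bmap (B' := B') ω).toRingHom) ≫ ·)
      (bcIso_inv_snd C)).symm.trans (Category.assoc _ _ _).symm)
    rw [← Spec.map_comp]
    congr 1
    exact CommRingCat.hom_ext (RingHom.ext fun c => ((bmap (B' := B') ω).commutes c).symm)

/-- A Weil restriction between affine schemes gives a universal algebra map. -/
theorem exists_univ (A W : Type u) [CommRing A] [Algebra B' A] [CommRing W] [Algebra B W]
    (q : Red.bc (φR B B') (specOver B W) ⟶ specOver B' A)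
    (hq : WeilRes.IsWeilRes (φR B B') (specOver B' A) (specOver B W) q) :
    ∃ β₀ : A →ₐ[B'] B' ⊗[B] W, IsUniv β₀ ∧
      (bcIso B B' W).inv.left ≫ q.left = Spec.map (CommRingCat.ofHom β₀.toRingHom) := by
  obtain ⟨β₀, hβ₀⟩ := (specOverHom_bijective B' A (B' ⊗[B] W)).2 ((bcIso B B' W).inv ≫ q)
  have hβ : (bcIso B B' W).inv.left ≫ q.left = Spec.map (CommRingCat.ofHom β₀.toRingHom) :=
    (congrArg (fun z => z.left) hβ₀).symm
  refine ⟨β₀, fun C _ _ => ?_, hβ⟩
  have h1 := (specOverHom_bijective B W C)
  have h2 := (specOverHom_bijective B' A (B' ⊗[B] C))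
  have h3 : Function.Bijective fun g : Red.bc (φR B B') (specOver B C) ⟶ specOver B' A =>
      (bcIso B B' C).inv ≫ g :=
    ⟨fun a b h => (cancel_epi _).mp h, fun b => ⟨(bcIso B B' C).hom ≫ b, by simp⟩⟩
  have hcomp := h3.comp ((hq (specOver B C)).comp h1)
  refine (Function.Bijective.of_comp_iff' h2 _).mp ?_
  convert hcomp using 1
  funext ω
  refine Over.OverMorphism.ext ?_
  show Spec.map (CommRingCat.ofHom ((bmap ω).comp β₀).toRingHom) =
    (bcIso B B' C).inv.left ≫ ((Over.pullback (φR B B')).map _).left ≫ q.left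
  rw [← Category.assoc, bcIso_inv_map ω _ rfl, Category.assoc, hβ, ← Spec.map_comp]
  rfl

/-- Data describing a Weil restriction of an affine scheme along a finite flat algebra. -/
theorem exists_chart [IsNoetherianRing B] [Module.Finite B B'] [Module.Flat B B']
    {X' : Over (Spec (CommRingCat.of B'))} [IsAffine X'.left] {R : Over (Spec (CommRingCat.of B))}
    {q : Red.bc (φR B B') R ⟶ X'} (hq : WeilRes.IsWeilRes (φR B B') X' R q) :
    IsAffine R.left ∧ (LocallyOfFiniteType X'.hom → LocallyOfFiniteType R.hom) ∧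
      ∃ (A W : Type u) (_ : CommRing A) (_ : Algebra B' A) (_ : CommRing W) (_ : Algebra B W)
        (_ : X' ≅ specOver B' A) (_ : R ≅ specOver B W) (β₀ : A →ₐ[B'] B' ⊗[B] W), IsUniv β₀ ∧
          Nonempty (Arrow.mk q.left ≅ Arrow.mk (Spec.map (CommRingCat.ofHom β₀.toRingHom))) := by
  have : IsFinite (φR B B') := (IsFinite.SpecMap_iff _).mpr (RingHom.finite_algebraMap.mpr ‹_›)
  have : Flat (φR B B') := (HasRingHomProperty.Spec_iff (P := @Flat)).mpr
    (RingHom.flat_algebraMap_iff.mpr ‹_›)
  have : LocallyOfFinitePresentation (φR B B') :=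
    (HasRingHomProperty.Spec_iff (P := @LocallyOfFinitePresentation)).mpr
      (RingHom.finitePresentation_algebraMap.mpr (Algebra.FinitePresentation.of_finiteType.mp inferInstance))
  have : IsAffineHom X'.hom := isAffineHom_of_isAffine X'.hom
  obtain ⟨R₀, q₀, hq₀, hR₀, hlft, -⟩ := exists_weilRes (φR B B') X'
  obtain ⟨i, -⟩ := exists_iso_of_isWeilRes _ hq hq₀
  have hi : R.hom = i.hom.left ≫ R₀.hom := (Over.w i.hom).symm
  have : IsIso i.hom.left := (Over.forget _).map_isIso i.hom
  have : IsAffineHom R.hom := by rw [hi]; infer_instance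
  have hRa : IsAffine R.left := isAffine_of_isAffineHom R.hom
  refine ⟨hRa, fun h => ?_, ?_⟩
  · have := hlft h
    rw [hi]; infer_instance
  let ψA : CommRingCat.of B' ⟶ Γ(X'.left, ⊤) := Spec.preimage (X'.left.isoSpec.inv ≫ X'.hom)
  let ψW : CommRingCat.of B ⟶ Γ(R.left, ⊤) := Spec.preimage (R.left.isoSpec.inv ≫ R.hom)
  let : Algebra B' Γ(X'.left, ⊤) := ψA.hom.toAlgebra
  let : Algebra B Γ(R.left, ⊤) := ψW.hom.toAlgebra
  let eX : X' ≅ specOver B' Γ(X'.left, ⊤) := Over.isoMk X'.left.isoSpec (by
    show _ ≫ Spec.map ψA = X'.hom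
    rw [Spec.map_preimage, Iso.hom_inv_id_assoc])
  let eR : R ≅ specOver B Γ(R.left, ⊤) := Over.isoMk R.left.isoSpec (by
    show _ ≫ Spec.map ψW = R.hom
    rw [Spec.map_preimage, Iso.hom_inv_id_assoc])
  obtain ⟨β₀, hβ₀, heq⟩ := exists_univ (B := B) (B' := B') _ _ _ (isWeilRes_iso _ hq eX eR.symm)
  refine ⟨_, _, inferInstance, inferInstance, inferInstance, inferInstance, eX, eR, β₀, hβ₀,
    ⟨Arrow.isoMk
      ((Over.forget _).mapIso ((Over.pullback (φR B B')).mapIso eR ≪≫ bcIso B B' _))
      ((Over.forget _).mapIso eX) ?_⟩⟩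
  show (((Over.pullback (φR B B')).map eR.hom).left ≫ (bcIso B B' _).hom.left) ≫
    Spec.map (CommRingCat.ofHom β₀.toRingHom) = q.left ≫ eX.hom.left
  rw [← heq]
  have h1 : (bcIso B B' Γ(R.left, ⊤)).hom.left ≫ (bcIso B B' Γ(R.left, ⊤)).inv.left = 𝟙 _ :=
    congrArg (fun z => Over.Hom.left z) (bcIso B B' Γ(R.left, ⊤)).hom_inv_id
  rw [Category.assoc, ← Category.assoc (bcIso B B' _).hom.left, h1, Category.id_comp]
  show _ ≫ ((Over.pullback (φR B B')).map eR.inv).left ≫ q.left ≫ eX.hom.left = _
  rw [← Category.assoc, ← Over.comp_left, ← Functor.map_comp, Iso.hom_inv_id,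
    CategoryTheory.Functor.map_id]
  exact Category.id_comp _

/-- The counit of the Weil restriction of a smooth affine scheme is smooth, and surjective if the
scheme is. -/
theorem smooth_counit [IsNoetherianRing B] [IsNoetherianRing B'] [Module.Finite B B'] [Module.Flat B B']
    {X' : Over (Spec (CommRingCat.of B'))} [IsAffine X'.left] [Smooth X'.hom]
    {R : Over (Spec (CommRingCat.of B))} {q : Red.bc (φR B B') R ⟶ X'}
    (hq : WeilRes.IsWeilRes (φR B B') X' R q) :
    Smooth q.left ∧ (Surjective X'.hom → Surjective q.left) := by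
  obtain ⟨-, hlft, A, W, _, _, _, _, eX, eR, β₀, hβ₀, ⟨ε⟩⟩ := exists_chart hq
  have : IsIso eX.inv.left := (Over.forget _).map_isIso eX.inv
  have : IsIso eR.inv.left := (Over.forget _).map_isIso eR.inv
  have hXA : Spec.map (CommRingCat.ofHom (algebraMap B' A)) = eX.inv.left ≫ X'.hom :=
    (Over.w eX.inv).symm
  have hA : Smooth (Spec.map (CommRingCat.ofHom (algebraMap B' A))) := by
    rw [hXA]; infer_instance
  have : Algebra.Smooth B' A :=
    RingHom.smooth_algebraMap.mp ((HasRingHomProperty.Spec_iff (P := @Smooth)).mp hA)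
  have : IsNoetherianRing A := Algebra.FiniteType.isNoetherianRing B' A
  have hW : LocallyOfFiniteType (Spec.map (CommRingCat.ofHom (algebraMap B W))) := by
    have := hlft inferInstance
    rw [show Spec.map (CommRingCat.ofHom (algebraMap B W)) = eR.inv.left ≫ R.hom from
      (Over.w eR.inv).symm]
    infer_instance
  have : Algebra.FiniteType B W := RingHom.finiteType_algebraMap.mp
    ((HasRingHomProperty.Spec_iff (P := @LocallyOfFiniteType)).mp hW)
  constructor
  · rw [(MorphismProperty.arrow_mk_iso_iff (P := @Smooth) ε),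
      HasRingHomProperty.Spec_iff (P := @Smooth)]
    refine RingHom.smooth_def.mpr ⟨hβ₀.formallySmooth, ?_⟩
    refine RingHom.FinitePresentation.of_finiteType.mp ?_
    refine RingHom.FiniteType.of_comp_finiteType (f := algebraMap B' A) ?_
    rw [CommRingCat.hom_ofHom,
      show β₀.toRingHom.comp (algebraMap B' A) = algebraMap B' (B' ⊗[B] W) from RingHom.ext β₀.commutes]
    exact RingHom.finiteType_algebraMap.mpr inferInstance
  · intro hs
    rw [(MorphismProperty.arrow_mk_iso_iff (P := @Surjective) ε)]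
    have h : Surjective (Spec.map (CommRingCat.ofHom (algebraMap B' A))) := by
      rw [hXA]; infer_instance
    exact ⟨hβ₀.surjective_comap h.surj⟩

end Groth.PRedWeil
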