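import Groth.Agent.RefRank.AffineCompl
import Groth.Agent.Calg4.KrullAkizuki
import Groth.Prelude.Def_FEt
import Mathlib.AlgebraicGeometry.AffineScheme
import Mathlib.RingTheory.Localization.BaseChange
import Mathlib.RingTheory.Ideal.Height

/-!
Fibres of morphisms which are open immersions off the closed point of a base with condition (W).
-/

set_option autoImplicit false
universe u

open CategoryTheory Limits AlgebraicGeometry TopologicalSpace Pointwise

noncomputable section

namespace Groth.PRedWeil.CondW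

variable {A C : Type u} [CommRing A] [CommRing C] [Algebra A C]

/-- The structure morphism. -/
abbrev str (A C : Type u) [CommRing A] [CommRing C] [Algebra A C] :
    Spec (CommRingCat.of C) ⟶ Spec (CommRingCat.of A) :=
  Spec.map (CommRingCat.ofHom (algebraMap A C))

/-- At a point where the structure morphism is a local isomorphism every element of the algebra is
a fraction of elements of the base. -/
theorem exists_frac (W : (Spec (CommRingCat.of C)).Opens) [IsOpenImmersion (W.ι ≫ str A C)]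
    (Q : PrimeSpectrum C) (hQ : Q ∈ W) (b : C) :
    ∃ (s r : A) (t : C), algebraMap A C s ∉ Q.asIdeal ∧ t ∉ Q.asIdeal ∧
      t * (algebraMap A C s * b - algebraMap A C r) = 0 := by
  let x : ↥(Spec (CommRingCat.of C)) := Q
  haveI h1 : IsIso ((W.ι ≫ str A C).stalkMap ⟨x, hQ⟩) := inferInstance
  rw [Scheme.Hom.stalkMap_comp] at h1
  have h1' : ∀ w : ↥(W : Scheme.{u}), IsIso (W.ι.stalkMap w) := fun w => inferInstance
  haveI := h1' ⟨x, hQ⟩
  haveI h2 : IsIso ((str A C).stalkMap x) :=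
    @IsIso.of_isIso_comp_right _ _ _ _ _ _ _ (h1' ⟨x, hQ⟩) h1
  have h3 := (MorphismProperty.arrow_mk_iso_iff (MorphismProperty.isomorphisms CommRingCat)
    (Scheme.arrowStalkMapSpecIso (CommRingCat.ofHom (algebraMap A C)) Q)).1 h2
  have h4 := (ConcreteCategory.isIso_iff_bijective _).1 h3
  obtain ⟨z₀, hz₀⟩ := h4.2 (algebraMap C (Localization.AtPrime Q.asIdeal) b)
  obtain ⟨z, hz⟩ : ∃ z : Localization.AtPrime (Q.asIdeal.comap (algebraMap A C)),
      Localization.localRingHom _ Q.asIdeal (algebraMap A C) rfl z =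
        algebraMap C (Localization.AtPrime Q.asIdeal) b := ⟨z₀, hz₀⟩
  obtain ⟨r, ⟨s, hs⟩, rfl⟩ := IsLocalization.exists_mk'_eq (Q.asIdeal.comap (algebraMap A C)).primeCompl z
  have hz' := hz
  rw [Localization.localRingHom_mk', eq_comm, IsLocalization.eq_mk'_iff_mul_eq, ← map_mul] at hz'
  obtain ⟨⟨t, ht⟩, h⟩ := (IsLocalization.eq_iff_exists Q.asIdeal.primeCompl _).1 hz'
  exact ⟨s, r, t, hs, ht, by
    rw [mul_sub, sub_eq_zero, ← h, mul_comm (algebraMap A C s) b]⟩

/-- Two points of an open subset immersed in the base have distinct images. -/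
theorem eq_of_comap_eq (W : (Spec (CommRingCat.of C)).Opens) [IsOpenImmersion (W.ι ≫ str A C)]
    {Q Q' : PrimeSpectrum C} (hQ : Q ∈ W) (hQ' : Q' ∈ W)
    (h : Q.asIdeal.comap (algebraMap A C) = Q'.asIdeal.comap (algebraMap A C)) : Q = Q' := by
  have hinj := (W.ι ≫ str A C).isOpenEmbedding.injective
  have := hinj (a₁ := ⟨Q, hQ⟩) (a₂ := ⟨Q', hQ'⟩) (PrimeSpectrum.ext h)
  exact congrArg Subtype.val this

/-- A domain birational to a one-dimensional Noetherian domain has dimension at most one. -/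
theorem isMaximal_of_birational {D E : Type u} [CommRing D] [IsDomain D] [IsNoetherianRing D]
    [Ring.KrullDimLE 1 D] [CommRing E] [IsDomain E] [Algebra D E]
    (hinj : Function.Injective (algebraMap D E))
    (hbir : ∀ e : E, ∃ s r : D, s ≠ 0 ∧ algebraMap D E s * e = algebraMap D E r)
    (P : Ideal E) [P.IsPrime] (hP : P ≠ ⊥) : P.IsMaximal := by
  classical
  let K := FractionRing E
  haveI : FaithfulSMul D E := (faithfulSMul_iff_algebraMap_injective D E).2 hinj
  have hKinj : Function.Injective (algebraMap D K) := by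
    rw [IsScalarTower.algebraMap_eq D E K]
    exact (IsFractionRing.injective E K).comp hinj
  haveI : IsFractionRing D K := by
    refine IsFractionRing.of_field D K fun z => ?_
    obtain ⟨a, b, hb, rfl⟩ := IsFractionRing.div_surjective E z
    obtain ⟨s, r, hs, hr⟩ := hbir a
    obtain ⟨s', r', hs', hr'⟩ := hbir b
    refine ⟨r * s', s * r', ?_⟩
    have hb0 : algebraMap E K b ≠ 0 :=
      (map_ne_zero_iff _ (IsFractionRing.injective E K)).2 (nonZeroDivisors.ne_zero hb)
    have hs0 : algebraMap D K s ≠ 0 := (map_ne_zero_iff _ hKinj).2 hs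
    have hs'0 : algebraMap D K s' ≠ 0 := (map_ne_zero_iff _ hKinj).2 hs'
    rw [map_mul, map_mul, IsScalarTower.algebraMap_apply D E K r, ← hr,
      IsScalarTower.algebraMap_apply D E K r', ← hr', map_mul, map_mul,
      ← IsScalarTower.algebraMap_apply, ← IsScalarTower.algebraMap_apply]
    rw [div_eq_div_iff hb0 (mul_ne_zero hs0 (mul_ne_zero hs'0 hb0))]
    ring
  obtain ⟨e, heP, he0⟩ := Submodule.exists_mem_ne_zero_of_ne_bot hP
  obtain ⟨s, x, hs, hx⟩ := hbir e
  have hx0 : x ≠ 0 := fun h => by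
    rw [h, map_zero, mul_eq_zero, map_eq_zero_iff _ hinj] at hx
    tauto
  have hxP : algebraMap D E x ∈ P := hx ▸ P.mul_mem_left _ heP
  let j : E →ₗ[D] (Fin 1 → K) := LinearMap.pi fun _ => (IsScalarTower.toAlgHom D E K).toLinearMap
  have hj : Function.Injective j := fun a b h =>
    IsFractionRing.injective E K (congrFun h 0)
  have hlen := Groth.Calg4.length_quotient_le_mul K 1 j hj hx0
  let I : Ideal E := Ideal.span {algebraMap D E x}
  let q : (E ⧸ x • (⊤ : Submodule D E)) →ₗ[D] E ⧸ I :=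
    Submodule.liftQ _ (Ideal.Quotient.mkₐ D I).toLinearMap (fun z hz => by
      obtain ⟨w, -, rfl⟩ := (Submodule.mem_smul_pointwise_iff_exists _ _ _).mp hz
      rw [LinearMap.mem_ker, Algebra.smul_def]
      exact Ideal.Quotient.eq_zero_iff_mem.2 (I.mul_mem_right _ (Ideal.mem_span_singleton_self _)))
  have hq : Function.Surjective q := fun z => by
    obtain ⟨w, rfl⟩ := Ideal.Quotient.mk_surjective z
    exact ⟨Submodule.Quotient.mk w, rfl⟩
  have hfin : Module.length D (E ⧸ I) ≠ ⊤ :=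
    ne_top_of_le_ne_top (WithTop.mul_ne_top (ENat.natCast_ne_top 1)
      (Ring.ord_ne_top (mem_nonZeroDivisors_of_ne_zero hx0)))
      ((Module.length_le_of_surjective q hq).trans hlen)
  obtain ⟨-, ha⟩ := isFiniteLength_iff_isNoetherian_isArtinian.mp (Module.length_ne_top_iff.mp hfin)
  haveI : IsArtinianRing (E ⧸ I) := isArtinian_of_tower D ha
  have hIP : I ≤ P := (Ideal.span_singleton_le_iff_mem _).2 hxP
  haveI : (P.map (Ideal.Quotient.mk I)).IsPrime :=
    Ideal.map_isPrime_of_surjective Ideal.Quotient.mk_surjective (by rwa [Ideal.mk_ker])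
  haveI : (P.map (Ideal.Quotient.mk I)).IsMaximal := IsArtinianRing.isMaximal_of_isPrime _
  have := Ideal.comap_isMaximal_of_surjective (Ideal.Quotient.mk I) Ideal.Quotient.mk_surjective
    (K := P.map (Ideal.Quotient.mk I))
  rwa [Ideal.comap_map_of_surjective _ Ideal.Quotient.mk_surjective, ← RingHom.ker_eq_comap_bot,
    Ideal.mk_ker, sup_eq_left.2 hIP] at this

variable (R : CommRingCat.{u}) [IsLocalRing ↑R] [IsNoetherianRing ↑R]

/-- Condition (W) for a local ring. -/
abbrev CondWFor : Prop :=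
  ∀ U : (Spec R).Opens, ∀ hU : U ≤ FEt.puncturedSpec ↑R,
    (∀ T ∈ irreducibleComponents ↥(FEt.puncturedSpec ↑R), ¬ Subtype.val '' T ⊆ (U : Set _)) →
    IsAffineHom ((Spec R).homOfLE hU) → IsAffineOpen U

/-- The local form: a point of the closed fibre generating it has height at most one or is the whole
closed fibre. -/
theorem local_height_le_one_or_singleton {B : Type u} [CommRing B] [IsNoetherianRing B] [Algebra ↑R B]
    (hW : CondWFor R) (W : (Spec (CommRingCat.of B)).Opens) [IsOpenImmersion (W.ι ≫ str ↑R B)]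
    (hWmem : ∀ Q : PrimeSpectrum B,
      Q.asIdeal.comap (algebraMap ↑R B) ≠ IsLocalRing.maximalIdeal ↑R → Q ∈ W)
    (P : PrimeSpectrum B) (hP : P.asIdeal.comap (algebraMap ↑R B) = IsLocalRing.maximalIdeal ↑R)
    (f₀ : B) (hf₀ : f₀ ∉ P.asIdeal)
    (hmin : ∀ Q : PrimeSpectrum B, Q.asIdeal.comap (algebraMap ↑R B) = IsLocalRing.maximalIdeal ↑R →
      f₀ ∉ Q.asIdeal → P.asIdeal ≤ Q.asIdeal) :
    P.asIdeal.height ≤ 1 ∨ ∀ Q : PrimeSpectrum B,
      Q.asIdeal.comap (algebraMap ↑R B) = IsLocalRing.maximalIdeal ↑R → f₀ ∉ Q.asIdeal → Q = P := by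
  classical
  refine or_iff_not_imp_right.2 fun hne => ?_
  push Not at hne
  obtain ⟨M, hMm, hMf, hMP⟩ := hne
  have hPM : P.asIdeal < M.asIdeal :=
    lt_of_le_of_ne (hmin M hMm hMf) fun e => hMP (PrimeSpectrum.ext e.symm)
  let S : (Spec R).Opens := FEt.puncturedSpec ↑R
  -- every component has a point whose preimage does not generalise `P`
  have hcomp : ∀ T ∈ irreducibleComponents ↥S, ∃ (w : ↥S) (g : B), w ∈ T ∧ g ∉ P.asIdeal ∧
      ∀ Q : PrimeSpectrum B, Q.asIdeal.comap (algebraMap ↑R B) = (w.1 : PrimeSpectrum ↑R).asIdeal →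
        g ∈ Q.asIdeal := by
    intro T hT
    obtain ⟨x₀, hx₀⟩ := hT.1.1
    obtain ⟨_, ⟨w, hw, rfl⟩, hmax⟩ := set_has_maximal_iff_noetherian.2 (inferInstance : IsNoetherianRing ↑R)
      ((fun x : ↥S => (x.1 : PrimeSpectrum ↑R).asIdeal) '' T) ⟨_, ⟨x₀, hx₀, rfl⟩⟩
    let q : PrimeSpectrum ↑R := w.1
    have hqm : q.asIdeal ≠ IsLocalRing.maximalIdeal ↑R := fun e => w.2 (PrimeSpectrum.ext e)
    by_cases hQ : ∃ Q : PrimeSpectrum B, Q.asIdeal.comap (algebraMap ↑R B) = q.asIdeal
    swap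
    · exact ⟨w, 1, hw, P.2.one_notMem, fun Q hQ' => (hQ ⟨Q, hQ'⟩).elim⟩
    obtain ⟨Q, hQq⟩ := hQ
    have hQW : Q ∈ W := hWmem Q (hQq ▸ hqm)
    have huniq : ∀ Q' : PrimeSpectrum B, Q'.asIdeal.comap (algebraMap ↑R B) = q.asIdeal → Q' = Q :=
      fun Q' hQ' => eq_of_comap_eq W (hWmem Q' (hQ' ▸ hqm)) hQW (hQ'.trans hQq.symm)
    suffices hnle : ¬ Q.asIdeal ≤ P.asIdeal by
      obtain ⟨g, hgQ, hgP⟩ := SetLike.not_le_iff_exists.1 hnle
      exact ⟨w, g, hw, hgP, fun Q' hQ' => huniq Q' hQ' ▸ hgQ⟩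
    intro hle
    have hover : ∀ I : PrimeSpectrum ↑R, q.asIdeal < I.asIdeal → I.asIdeal = IsLocalRing.maximalIdeal ↑R := by
      intro I hI
      by_contra hIm
      have hIS : (I : ↥(Spec R)) ∈ S := fun e => hIm (by rw [show I = IsLocalRing.closedPoint ↑R from e]; rfl)
      have hsp : w ⤳ (⟨I, hIS⟩ : ↥S) :=
        (subtype_specializes_iff _ _).2 ((PrimeSpectrum.le_iff_specializes _ _).1 hI.le)
      exact hmax _ ⟨⟨I, hIS⟩, hsp.mem_closed (isClosed_of_mem_irreducibleComponents T hT) hw, rfl⟩ hI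
    haveI : Ring.KrullDimLE 1 (↑R ⧸ q.asIdeal) := Ring.krullDimLE_one_iff_of_isPrime_bot.2 fun I hI hI' => by
      have hlt : q.asIdeal < I.comap (Ideal.Quotient.mk q.asIdeal) := by
        refine lt_of_le_of_ne ?_ fun e => hI ?_
        · conv_lhs => rw [← Ideal.mk_ker (I := q.asIdeal)]
          exact Ideal.comap_mono bot_le
        · rw [← Ideal.map_comap_of_surjective _ Ideal.Quotient.mk_surjective I, ← e, Ideal.map_quotient_self]
      have := hover ⟨_, Ideal.IsPrime.comap (hK := hI') _⟩ hlt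
      have hm : (I.comap (Ideal.Quotient.mk q.asIdeal)).IsMaximal := by
        rw [show I.comap (Ideal.Quotient.mk q.asIdeal) = IsLocalRing.maximalIdeal ↑R from this]
        exact IsLocalRing.maximalIdeal.isMaximal _
      exact (Ideal.map_comap_of_surjective _ Ideal.Quotient.mk_surjective I) ▸
        (Ideal.map_eq_top_or_isMaximal_of_surjective _ Ideal.Quotient.mk_surjective hm).resolve_left (by
          rw [Ideal.map_comap_of_surjective _ Ideal.Quotient.mk_surjective]; exact hI'.ne_top)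
    let φ : ↑R ⧸ q.asIdeal →+* B ⧸ Q.asIdeal := Ideal.quotientMap Q.asIdeal (algebraMap ↑R B) hQq.ge
    letI := φ.toAlgebra
    have hφ : Function.Injective φ := Ideal.quotientMap_injective' hQq.le
    have hPbot : P.asIdeal.map (Ideal.Quotient.mk Q.asIdeal) ≠ ⊥ := fun e => hqm (by
      rw [Ideal.map_eq_bot_iff_le_ker, Ideal.mk_ker] at e
      rw [← hQq, le_antisymm hle e, hP])
    haveI : (P.asIdeal.map (Ideal.Quotient.mk Q.asIdeal)).IsPrime :=
      Ideal.map_isPrime_of_surjective Ideal.Quotient.mk_surjective (by rwa [Ideal.mk_ker])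
    have hmaxP := isMaximal_of_birational hφ (fun e => by
      obtain ⟨b, rfl⟩ := Ideal.Quotient.mk_surjective e
      obtain ⟨s, r, t, hs, ht, h⟩ := exists_frac (A := ↑R) W Q hQW b
      refine ⟨Ideal.Quotient.mk _ s, Ideal.Quotient.mk _ r, fun e => hs ?_, ?_⟩
      · rw [Ideal.Quotient.eq_zero_iff_mem, ← hQq] at e
        exact e
      · show φ (Ideal.Quotient.mk _ s) * Ideal.Quotient.mk _ b = φ (Ideal.Quotient.mk _ r)
        simp only [φ, Ideal.quotientMap_mk]
        rw [← map_mul, Ideal.Quotient.eq]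
        exact (Q.2.mem_or_mem (h ▸ zero_mem _ : t * _ ∈ Q.asIdeal)).resolve_left ht)
      (P.asIdeal.map (Ideal.Quotient.mk Q.asIdeal)) hPbot
    haveI : (M.asIdeal.map (Ideal.Quotient.mk Q.asIdeal)).IsPrime :=
      Ideal.map_isPrime_of_surjective Ideal.Quotient.mk_surjective (by rw [Ideal.mk_ker]; exact hle.trans hPM.le)
    have heq := Ideal.IsMaximal.eq_of_le hmaxP (Ideal.IsPrime.ne_top ‹(M.asIdeal.map (Ideal.Quotient.mk Q.asIdeal)).IsPrime›) (Ideal.map_mono hPM.le)
    have := congrArg (Ideal.comap (Ideal.Quotient.mk Q.asIdeal)) heq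
    simp only [Ideal.comap_map_of_surjective _ Ideal.Quotient.mk_surjective, ← RingHom.ker_eq_comap_bot,
      Ideal.mk_ker, sup_eq_left.2 hle, sup_eq_left.2 (hle.trans hPM.le)] at this
    exact hPM.ne this
  choose w g hw hg hgQ using hcomp
  haveI : NoetherianSpace ↥(Spec R) := inferInstanceAs (NoetherianSpace (PrimeSpectrum ↑R))
  haveI : NoetherianSpace ↥S := NoetherianSpace.set (S : Set ↥(Spec R))
  have hfin : (irreducibleComponents ↥S).Finite := NoetherianSpace.finite_irreducibleComponents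
  let f := f₀ * ∏ T ∈ hfin.toFinset.attach, g T.1 (hfin.mem_toFinset.1 T.2)
  have hfP : f ∉ P.asIdeal := fun h => (P.2.mem_or_mem h).elim hf₀ fun h' => by
    obtain ⟨⟨T, hT⟩, -, hgT⟩ := (Ideal.IsPrime.prod_mem_iff).1 h'
    exact hg T (hfin.mem_toFinset.1 hT) hgT
  -- the open subset of the punctured spectrum
  let π := str ↑R B
  let D : (Spec (CommRingCat.of B)).Opens := PrimeSpectrum.basicOpen f
  have hD : IsAffineOpen D := IsAffineOpen.Spec_basicOpen (R := CommRingCat.of B) f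
  haveI : IsAffine (D : Scheme.{u}) := hD
  let j : (D : Scheme.{u}) ⟶ Spec R := D.ι ≫ π
  haveI : IsAffineHom j := isAffineHom_of_isAffine _
  haveI : IsAffineHom (j ∣_ S) := IsZariskiLocalAtTarget.restrict ‹IsAffineHom j› S
  have hrange : Set.range ((j ⁻¹ᵁ S).ι ≫ D.ι).base ⊆ Set.range W.ι.base := by
    rintro _ ⟨x, rfl⟩
    rw [Scheme.Opens.range_ι]
    exact hWmem _ fun e => x.2 (PrimeSpectrum.ext e)
  let l := IsOpenImmersion.lift W.ι ((j ⁻¹ᵁ S).ι ≫ D.ι) hrange
  have hl : l ≫ W.ι = (j ⁻¹ᵁ S).ι ≫ D.ι := IsOpenImmersion.lift_fac _ _ _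
  haveI : IsOpenImmersion (l ≫ W.ι) := by rw [hl]; infer_instance
  haveI : IsOpenImmersion l := IsOpenImmersion.of_comp l W.ι
  haveI : IsOpenImmersion (j ∣_ S ≫ S.ι) := by
    rw [morphismRestrict_ι, show (j ⁻¹ᵁ S).ι ≫ j = l ≫ W.ι ≫ π by rw [← Category.assoc l, hl, Category.assoc]]
    infer_instance
  let U := (j ∣_ S ≫ S.ι).opensRange
  have hUle : U ≤ S := by
    rintro _ ⟨x, rfl⟩
    exact ((j ∣_ S).base x).2
  have hUT : ∀ T ∈ irreducibleComponents ↥S, ¬ Subtype.val '' T ⊆ (U : Set _) := by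
    intro T hT hsub
    obtain ⟨x, hx⟩ := hsub ⟨w T hT, hw T hT, rfl⟩
    have h1 : ((x.1.1 : PrimeSpectrum B)).asIdeal.comap (algebraMap ↑R B) = ((w T hT).1 : PrimeSpectrum ↑R).asIdeal := by
      have h2 : (j ∣_ S ≫ S.ι).base x = π.base x.1.1 := by
        rw [morphismRestrict_ι]
        rfl
      exact congrArg PrimeSpectrum.asIdeal (h2.symm.trans hx)
    refine x.1.2 (Ideal.mul_mem_left _ _ ?_)
    exact Ideal.prod_mem _ (Finset.mem_attach _ ⟨T, hfin.mem_toFinset.2 hT⟩) (hgQ T hT _ h1)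
  have hUaff : IsAffineOpen U := hW U hUle hUT (by
    have e : (j ∣_ S ≫ S.ι).isoOpensRange.hom ≫ (Spec R).homOfLE hUle = j ∣_ S := by
      rw [← cancel_mono S.ι, Category.assoc, Scheme.homOfLE_ι]
      exact Scheme.Hom.isoOpensRange_hom_ι _
    exact (MorphismProperty.cancel_left_of_respectsIso (P := @IsAffineHom) _ _).1 (by rw [e]; infer_instance))
  haveI : IsAffine (U : Scheme.{u}) := hUaff
  have hsrc : IsAffineOpen (j ⁻¹ᵁ S) := IsAffine.of_isIso (j ∣_ S ≫ S.ι).isoOpensRange.hom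
  have himg : IsAffineOpen (D.ι ''ᵁ (j ⁻¹ᵁ S)) := hsrc.image_of_isOpenImmersion D.ι
  refine Groth.RefRank.AffineCompl.height_le_one_of_generic _ himg P ?_ fun Q hQP hQU => ?_
  · rintro ⟨x, hx, hxP⟩
    refine hx (PrimeSpectrum.ext ?_)
    have hxP' : (x.1 : PrimeSpectrum B) = P := hxP
    show (x.1 : PrimeSpectrum B).asIdeal.comap (algebraMap ↑R B) = IsLocalRing.maximalIdeal ↑R
    rw [hxP', hP]
  · have hQD : Q ∈ D := fun h => hfP (hQP h)
    have hQm : Q.asIdeal.comap (algebraMap ↑R B) = IsLocalRing.maximalIdeal ↑R := by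
      by_contra hQm
      exact hQU ⟨⟨Q, hQD⟩, fun e => hQm (congrArg PrimeSpectrum.asIdeal e), rfl⟩
    exact PrimeSpectrum.ext (le_antisymm hQP (hmin Q hQm fun h => hQD (Ideal.mul_mem_right _ _ h)))

/-- A point of the fibre over a prime which generates that fibre has height at most one or is the
whole fibre. -/
theorem height_le_one_or_singleton [IsNoetherianRing C] [Algebra A ↑R] (m : Ideal A) [m.IsPrime]
    [IsLocalization.AtPrime (↑R) m] (hW : CondWFor R) (W : (Spec (CommRingCat.of C)).Opens)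
    [IsOpenImmersion (W.ι ≫ str A C)]
    (hWmem : ∀ Q : PrimeSpectrum C, Q.asIdeal.comap (algebraMap A C) < m → Q ∈ W)
    (P : PrimeSpectrum C) (hP : P.asIdeal.comap (algebraMap A C) = m) (f₀ : C) (hf₀ : f₀ ∉ P.asIdeal)
    (hmin : ∀ Q : PrimeSpectrum C, Q.asIdeal.comap (algebraMap A C) = m →
      f₀ ∉ Q.asIdeal → P.asIdeal ≤ Q.asIdeal) :
    P.asIdeal.height ≤ 1 ∨ ∀ Q : PrimeSpectrum C,
      Q.asIdeal.comap (algebraMap A C) = m → f₀ ∉ Q.asIdeal → Q = P := by
  classical
  let B := Localization (Algebra.algebraMapSubmonoid C m.primeCompl)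
  letI algRB : Algebra ↑R B := localizationAlgebra m.primeCompl C
  haveI : IsScalarTower A ↑R B := isScalarTower_localizationAlgebra (Rₘ := ↑R) (Sₘ := B) m.primeCompl C
  haveI : IsNoetherianRing B := IsLocalization.isNoetherianRing (Algebra.algebraMapSubmonoid C m.primeCompl) B inferInstance
  haveI : Algebra.IsPushout A ↑R C B := (Algebra.isPushout_of_isLocalization m.primeCompl ↑R C B).symm
  let β := str C B
  have hsq : IsPullback β (str ↑R B) (str A C) (str A ↑R) :=
    (isPullback_SpecMap_of_isPushout _ _ _ _ (CommRingCat.isPushout_of_isPushout A ↑R C B)).flip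
  have hW' : IsPullback (β ∣_ W) ((β ⁻¹ᵁ W).ι ≫ str ↑R B) (W.ι ≫ str A C) (str A ↑R) :=
    (isPullback_morphismRestrict β W).paste_vert hsq
  haveI : IsOpenImmersion ((β ⁻¹ᵁ W).ι ≫ str ↑R B) :=
    MorphismProperty.of_isPullback hW' inferInstance
  have hcomap : ∀ Q : PrimeSpectrum B,
      (Q.asIdeal.comap (algebraMap C B)).comap (algebraMap A C) =
        (Q.asIdeal.comap (algebraMap ↑R B)).comap (algebraMap A ↑R) := fun Q => by
    rw [Ideal.comap_comap, Ideal.comap_comap, ← IsScalarTower.algebraMap_eq, ← IsScalarTower.algebraMap_eq]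
  have hmR : (IsLocalRing.maximalIdeal ↑R).comap (algebraMap A ↑R) = m :=
    IsLocalization.AtPrime.comap_maximalIdeal ↑R m
  have hover : ∀ Q : PrimeSpectrum B, Q.asIdeal.comap (algebraMap ↑R B) = IsLocalRing.maximalIdeal ↑R ↔
      (Q.asIdeal.comap (algebraMap C B)).comap (algebraMap A C) = m := fun Q => by
    rw [hcomap]
    refine ⟨fun h => by rw [h, hmR], fun h => ?_⟩
    have h2 := IsLocalization.map_comap m.primeCompl ↑R (Q.asIdeal.comap (algebraMap ↑R B))
    rw [← h2]
    refine (congrArg (Ideal.map (algebraMap A ↑R)) h).trans ?_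
    exact IsLocalization.AtPrime.map_eq_maximalIdeal m ↑R
  have hdisj : ∀ Q : PrimeSpectrum C, Q.asIdeal.comap (algebraMap A C) = m →
      Disjoint (Algebra.algebraMapSubmonoid C m.primeCompl : Set C) Q.asIdeal := fun Q hQ => by
    rw [Set.disjoint_left]
    rintro _ ⟨a, ha, rfl⟩ h
    exact ha (hQ ▸ h)
  let lift' : ∀ Q : PrimeSpectrum C, Q.asIdeal.comap (algebraMap A C) = m → PrimeSpectrum B := fun Q hQ =>
    ⟨Q.asIdeal.map (algebraMap C B),
      IsLocalization.isPrime_of_isPrime_disjoint (Algebra.algebraMapSubmonoid C m.primeCompl) B _ Q.2 (hdisj Q hQ)⟩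
  have hlift : ∀ Q hQ, (lift' Q hQ).asIdeal.comap (algebraMap C B) = Q.asIdeal := fun Q hQ =>
    IsLocalization.comap_map_of_isPrime_disjoint (Algebra.algebraMapSubmonoid C m.primeCompl) B Q.2 (hdisj Q hQ)
  rcases local_height_le_one_or_singleton R hW (β ⁻¹ᵁ W) (fun Q hQ => hWmem _ (by
      refine lt_of_le_of_ne ?_ fun e => hQ ((hover Q).2 e)
      show (Q.asIdeal.comap (algebraMap C B)).comap (algebraMap A C) ≤ m
      rw [hcomap]
      exact (Ideal.comap_mono (IsLocalRing.le_maximalIdeal (Ideal.IsPrime.comap (hK := Q.2) _).ne_top)).trans hmR.le))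
    (lift' P hP) ((hover _).2 ((congrArg (Ideal.comap (algebraMap A C)) (hlift P hP)).trans hP)) (algebraMap C B f₀)
    (fun h => hf₀ (hlift P hP ▸ h))
    (fun Q hQ hQf => by
      have := Ideal.map_mono (f := algebraMap C B)
        (hmin ⟨_, Ideal.IsPrime.comap (hK := Q.2) _⟩ ((hover Q).1 hQ) hQf)
      exact this.trans Ideal.map_comap_le) with h | h
  · left
    rwa [← IsLocalization.height_map_of_disjoint (S := B) (Algebra.algebraMapSubmonoid C m.primeCompl) P.asIdeal (hdisj P hP)]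
  · refine Or.inr fun Q hQ hQf => PrimeSpectrum.ext ?_
    have := h (lift' Q hQ) ((hover _).2 ((congrArg (Ideal.comap (algebraMap A C)) (hlift Q hQ)).trans hQ)) (fun h' => hQf (hlift Q hQ ▸ h'))
    rw [← hlift Q hQ, this, hlift P hP]

end Groth.PRedWeil.CondW
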