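import Groth.Agent.PRedWeil.ConditionW
import Mathlib.AlgebraicGeometry.Noetherian
import Mathlib.AlgebraicGeometry.Morphisms.LocalIso

/-!
Condition (W) and the points of a fibre, on schemes.
-/

set_option autoImplicit false
universe u

open CategoryTheory Limits AlgebraicGeometry TopologicalSpace

noncomputable section

namespace Groth.PRedWeil.CondW

/-- Around a point which is maximal in a closed set, some affine open meets the set only in the
closure of the point. -/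
theorem exists_affine_nbhd_closure {X : Scheme.{u}} [IsLocallyNoetherian X] (T : Set ↥X) (hT : IsClosed T)
    (U : X.Opens) (z : ↥X) (hzU : z ∈ U) (hzT : z ∈ T) (hmax : ∀ x ∈ T, x ⤳ z → x = z) :
    ∃ V : X.Opens, IsAffineOpen V ∧ z ∈ V ∧ V ≤ U ∧ ∀ x ∈ V, x ∈ T → z ⤳ x := by
  classical
  obtain ⟨_, ⟨V, hV, rfl⟩, hzV, hVU⟩ := X.isBasis_affineOpens.exists_subset_of_mem_open hzU U.2
  haveI : IsNoetherianRing Γ(X, V) := IsLocallyNoetherian.component_noetherian ⟨V, hV⟩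
  obtain ⟨I, hI⟩ := (PrimeSpectrum.isClosed_iff_zeroLocus_ideal _).1 (hT.preimage hV.fromSpec.continuous)
  have hmem : ∀ Q : PrimeSpectrum Γ(X, V), hV.fromSpec Q ∈ T ↔ I ≤ Q.asIdeal := fun Q =>
    (Set.ext_iff.1 hI Q).trans (PrimeSpectrum.mem_zeroLocus _ _)
  let P := hV.primeIdealOf ⟨z, hzV⟩
  have hPz : hV.fromSpec P = z := hV.fromSpec_primeIdealOf _
  have hfin := (Ideal.finite_minimalPrimes_of_isNoetherianRing _ I).subset (fun q (hq : q ∈ I.minimalPrimes ∧ ¬ q ≤ P.asIdeal) => hq.1)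
  have hg : ∀ q ∈ hfin.toFinset, ∃ g : Γ(X, V), g ∈ q ∧ g ∉ P.asIdeal := fun q hq => by
    obtain ⟨g, h1, h2⟩ := SetLike.not_le_iff_exists.1 (hfin.mem_toFinset.1 hq).2
    exact ⟨g, h1, h2⟩
  choose g hgq hgP using hg
  let f := ∏ q ∈ hfin.toFinset.attach, g q.1 q.2
  have hfP : f ∉ P.asIdeal := fun h => by
    obtain ⟨q, -, hq⟩ := (Ideal.IsPrime.prod_mem_iff).1 h
    exact hgP q.1 q.2 hq
  have hpre := hV.fromSpec_preimage_basicOpen f
  refine ⟨X.basicOpen f, hV.basicOpen f, ?_, (X.basicOpen_le f).trans hVU, fun x hx hxT => ?_⟩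
  · rw [← hPz]
    show P ∈ hV.fromSpec ⁻¹ᵁ X.basicOpen f
    rw [hpre]
    exact hfP
  · obtain ⟨Q, rfl⟩ : x ∈ Set.range hV.fromSpec := by
      rw [hV.range_fromSpec]
      exact X.basicOpen_le f hx
    have hfQ : f ∉ Q.asIdeal := by
      have : Q ∈ hV.fromSpec ⁻¹ᵁ X.basicOpen f := hx
      rwa [hpre] at this
    obtain ⟨q, hq, hqQ⟩ := Ideal.exists_minimalPrimes_le ((hmem Q).1 hxT)
    have hqP : q ≤ P.asIdeal := by
      by_contra h
      exact hfQ (hqQ (Ideal.prod_mem _ (Finset.mem_attach _ ⟨q, hfin.mem_toFinset.2 ⟨hq, h⟩⟩) (hgq _ _)))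
    let q' : PrimeSpectrum Γ(X, V) := ⟨q, hq.1.1⟩
    have hsp : hV.fromSpec q' ⤳ z := hPz ▸
      ((PrimeSpectrum.le_iff_specializes q' P).1 hqP).map hV.fromSpec.continuous
    have := hmax _ ((hmem q').2 hq.1.2) hsp
    rw [← this]
    exact ((PrimeSpectrum.le_iff_specializes q' Q).1 hqQ).map hV.fromSpec.continuous

/-- In an irreducible affine open a local isomorphism at `x` separates `x` from the points which
are not generalisations of it. -/
theorem specializes_of_map_eq {X Y : Scheme.{u}} (g : X ⟶ Y) [IrreducibleSpace ↥X] {U : Y.Opens}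
    (hU : IsAffineOpen U) {V : X.Opens} (hV : IsAffineOpen V) (e : V ≤ g ⁻¹ᵁ U)
    (W : X.Opens) [IsOpenImmersion (W.ι ≫ g)] {x x' : ↥X} (hxW : x ∈ W) (hxV : x ∈ V) (hx'V : x' ∈ V)
    (h : g x = g x') : x' ⤳ x := by
  letI := (g.appLE U V e).hom.toAlgebra
  have hsq : Spec.map (g.appLE U V e) ≫ hU.fromSpec = hV.fromSpec ≫ g := hU.SpecMap_appLE_fromSpec g hV e
  let W' := hV.fromSpec ⁻¹ᵁ W
  haveI : IsOpenImmersion (W'.ι ≫ str Γ(Y, U) Γ(X, V)) := by
    haveI : IsOpenImmersion ((W'.ι ≫ str Γ(Y, U) Γ(X, V)) ≫ hU.fromSpec) := by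
      rw [Category.assoc, show str Γ(Y, U) Γ(X, V) = Spec.map (g.appLE U V e) from rfl, hsq,
        ← Category.assoc, ← morphismRestrict_ι, Category.assoc]
      infer_instance
    exact IsOpenImmersion.of_comp _ hU.fromSpec
  let Q := hV.primeIdealOf ⟨x, hxV⟩
  let Q' := hV.primeIdealOf ⟨x', hx'V⟩
  have hQ : hV.fromSpec Q = x := hV.fromSpec_primeIdealOf _
  have hQ' : hV.fromSpec Q' = x' := hV.fromSpec_primeIdealOf _
  have hcomap : Q.asIdeal.comap (algebraMap Γ(Y, U) Γ(X, V)) = Q'.asIdeal.comap (algebraMap Γ(Y, U) Γ(X, V)) := by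
    refine congrArg PrimeSpectrum.asIdeal (hU.fromSpec.isOpenEmbedding.injective
      (a₁ := Spec.map (g.appLE U V e) Q) (a₂ := Spec.map (g.appLE U V e) Q') ?_)
    rw [← Scheme.Hom.comp_apply, ← Scheme.Hom.comp_apply, hsq, Scheme.Hom.comp_apply, Scheme.Hom.comp_apply,
      hQ, hQ', h]
  have hirr : IsIrreducible (Set.univ : Set (PrimeSpectrum Γ(X, V))) := by
    refine ⟨⟨Q, trivial⟩, ?_⟩
    have := (IrreducibleSpace.isIrreducible_univ (X := ↥X)).2.preimage hV.fromSpec.isOpenEmbedding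
    rwa [Set.preimage_univ] at this
  have hN : (nilradical Γ(X, V)).IsPrime := by
    rw [← PrimeSpectrum.vanishingIdeal_univ]
    exact PrimeSpectrum.isIrreducible_iff_vanishingIdeal_isPrime.1 hirr
  rw [← hQ, ← hQ']
  refine ((PrimeSpectrum.le_iff_specializes Q' Q).1 fun b hb => ?_).map hV.fromSpec.continuous
  obtain ⟨s, r, t, hs, ht, h0⟩ := exists_frac (A := Γ(Y, U)) W' Q (show hV.fromSpec Q ∈ W by rw [hQ]; exact hxW) b
  have hsub : algebraMap Γ(Y, U) Γ(X, V) s * b - algebraMap Γ(Y, U) Γ(X, V) r ∈ nilradical Γ(X, V) :=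
    (hN.mem_or_mem (h0 ▸ zero_mem _ : t * _ ∈ nilradical Γ(X, V))).resolve_left
      fun ht' => ht (nilradical_le_prime Q.asIdeal ht')
  have hr : algebraMap Γ(Y, U) Γ(X, V) r ∈ Q.asIdeal := by
    have : algebraMap Γ(Y, U) Γ(X, V) r ∈ Q'.asIdeal := by
      have := sub_mem (Ideal.mul_mem_left _ (algebraMap Γ(Y, U) Γ(X, V) s) hb) (nilradical_le_prime Q'.asIdeal hsub)
      simpa using this
    exact (Ideal.ext_iff.1 hcomap r).2 this
  have := add_mem (nilradical_le_prime Q.asIdeal hsub) hr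
  rw [sub_add_cancel] at this
  exact (Q.2.mem_or_mem this).resolve_left hs

/-- A point generating the part of its fibre in an affine open has a local ring of dimension at most
one or is alone in it. -/
theorem dim_le_one_or_singleton {X Y : Scheme.{u}} [IsLocallyNoetherian X] [IsLocallyNoetherian Y]
    (g : X ⟶ Y) (y : ↥Y) (hW : CondWFor (Y.presheaf.stalk y)) {U : Y.Opens} (hU : IsAffineOpen U)
    (hyU : y ∈ U) {V : X.Opens} (hV : IsAffineOpen V) (e : V ≤ g ⁻¹ᵁ U) (z : ↥X) (hzV : z ∈ V)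
    (hz : g z = y) (hfib : ∀ x ∈ V, g x = y → z ⤳ x)
    (W : X.Opens) [IsOpenImmersion (W.ι ≫ g)] (hWmem : ∀ x ∈ V, g x ⤳ y → g x ≠ y → x ∈ W) :
    ringKrullDim (X.presheaf.stalk z) ≤ 1 ∨ ∀ x ∈ V, g x = y → x = z := by
  letI := (g.appLE U V e).hom.toAlgebra
  haveI : IsNoetherianRing Γ(X, V) := IsLocallyNoetherian.component_noetherian ⟨V, hV⟩
  have hsq : Spec.map (g.appLE U V e) ≫ hU.fromSpec = hV.fromSpec ≫ g := hU.SpecMap_appLE_fromSpec g hV e
  let W' := hV.fromSpec ⁻¹ᵁ W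
  haveI : IsOpenImmersion (W'.ι ≫ str Γ(Y, U) Γ(X, V)) := by
    haveI : IsOpenImmersion ((W'.ι ≫ str Γ(Y, U) Γ(X, V)) ≫ hU.fromSpec) := by
      rw [Category.assoc, show str Γ(Y, U) Γ(X, V) = Spec.map (g.appLE U V e) from rfl, hsq,
        ← Category.assoc, ← morphismRestrict_ι, Category.assoc]
      infer_instance
    exact IsOpenImmersion.of_comp _ hU.fromSpec
  let m := hU.primeIdealOf ⟨y, hyU⟩
  have hm : hU.fromSpec m = y := hU.fromSpec_primeIdealOf _
  letI : Algebra Γ(Y, U) (Y.presheaf.stalk y) := TopCat.Presheaf.algebra_section_stalk Y.presheaf ⟨y, hyU⟩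
  haveI : IsLocalization.AtPrime (Y.presheaf.stalk y) m.asIdeal := hU.isLocalization_stalk ⟨y, hyU⟩
  let im : PrimeSpectrum Γ(X, V) → PrimeSpectrum Γ(Y, U) := fun Q => Spec.map (g.appLE U V e) Q
  have him : ∀ Q, hU.fromSpec (im Q) = g (hV.fromSpec Q) := fun Q => by
    rw [← Scheme.Hom.comp_apply, hsq, Scheme.Hom.comp_apply]
  have hover : ∀ Q : PrimeSpectrum Γ(X, V),
      Q.asIdeal.comap (algebraMap Γ(Y, U) Γ(X, V)) = m.asIdeal ↔ g (hV.fromSpec Q) = y := fun Q => by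
    refine ⟨fun h => ?_, fun h => ?_⟩
    · rw [← him, show im Q = m from PrimeSpectrum.ext h, hm]
    · exact congrArg PrimeSpectrum.asIdeal
        (hU.fromSpec.isOpenEmbedding.injective (((him Q).trans h).trans hm.symm) : im Q = m)
  have hVmem : ∀ Q : PrimeSpectrum Γ(X, V), hV.fromSpec Q ∈ V := fun Q => by
    show hV.fromSpec Q ∈ (V : Set ↥X)
    rw [← hV.range_fromSpec]
    exact Set.mem_range_self _
  let P := hV.primeIdealOf ⟨z, hzV⟩
  have hP : hV.fromSpec P = z := hV.fromSpec_primeIdealOf _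
  rcases height_le_one_or_singleton (Y.presheaf.stalk y) m.asIdeal hW W' (fun Q hQ => by
      refine hWmem _ (hVmem Q) ?_ fun h => hQ.ne ((hover Q).2 h)
      rw [← him, ← hm]
      exact ((PrimeSpectrum.le_iff_specializes (im Q) m).1 hQ.le).map hU.fromSpec.continuous)
    P ((hover P).2 (by rw [hP, hz])) 1 P.2.one_notMem (fun Q hQ _ => by
      have hs : P ⤳ Q := hV.fromSpec.isOpenEmbedding.isInducing.specializes_iff.1 (by
        rw [hP]
        exact hfib _ (hVmem Q) ((hover Q).1 hQ))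
      exact (PrimeSpectrum.le_iff_specializes P Q).2 hs) with h | h
  · left
    letI : Algebra Γ(X, V) (X.presheaf.stalk z) := TopCat.Presheaf.algebra_section_stalk X.presheaf ⟨z, hzV⟩
    haveI : IsLocalization.AtPrime (X.presheaf.stalk z) P.asIdeal := hV.isLocalization_stalk ⟨z, hzV⟩
    rw [IsLocalization.AtPrime.ringKrullDim_eq_height P.asIdeal (X.presheaf.stalk z)]
    exact_mod_cast h
  · refine Or.inr fun x hx hgx => ?_
    let Q := hV.primeIdealOf ⟨x, hx⟩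
    have hQ : hV.fromSpec Q = x := hV.fromSpec_primeIdealOf _
    rw [← hQ, h Q ((hover Q).2 (by rw [hQ, hgx])) Q.2.one_notMem, hP]

/-- An injective local isomorphism is an open immersion. -/
theorem isOpenImmersion_of_injective {X Y : Scheme.{u}} (f : X ⟶ Y)
    (hf : ∀ x, ∃ W : X.Opens, x ∈ W ∧ IsOpenImmersion (W.ι ≫ f)) (hinj : Function.Injective f) :
    IsOpenImmersion f := by
  haveI : ∀ x, IsIso (f.stalkMap x) := fun x => by
    obtain ⟨W, hx, hW⟩ := hf x
    have h : IsIso ((W.ι ≫ f).stalkMap ⟨x, hx⟩) := inferInstance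
    rw [Scheme.Hom.stalkMap_comp] at h
    have h' : ∀ w : ↥(W : Scheme.{u}), IsIso (W.ι.stalkMap w) := fun w => inferInstance
    exact @IsIso.of_isIso_comp_right _ _ _ _ _ _ _ (h' ⟨x, hx⟩) h
  refine IsOpenImmersion.of_isIso_stalkMap f
    (Topology.IsOpenEmbedding.of_continuous_injective_isOpenMap f.continuous hinj ?_)
  intro O hO
  refine isOpen_iff_forall_mem_open.2 ?_
  rintro _ ⟨x, hx, rfl⟩
  obtain ⟨W, hxW, hW⟩ := hf x
  refine ⟨(W.ι ≫ f) '' (W.ι ⁻¹' O), ?_, (W.ι ≫ f).isOpenEmbedding.isOpenMap _ (hO.preimage W.ι.continuous),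
    ⟨⟨x, hxW⟩, hx, rfl⟩⟩
  rintro _ ⟨w, hw, rfl⟩
  exact ⟨W.ι w, hw, rfl⟩

end Groth.PRedWeil.CondW
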