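import Groth.Agent.PRedWeil.IntFixed
import Groth.Agent.GaloisBrauer.H13.ConstTorsor
import Groth.Agent.Pi1Quot.SigmaFinite
import Groth.Agent.Reductive.HomScheme.Apps

/-!
Averaging over a finite group of invertible order.
-/

set_option autoImplicit false
universe u
attribute [local instance 10000] CategoryTheory.Hom.group

open CategoryTheory MonoidalCategory CartesianMonoidalCategory MonObj AlgebraicGeometry Limits

noncomputable section

namespace Groth.PRedWeil.ConstAvg

open Groth.SGA7 Groth.Reductive.MTInt Groth.PRedWeil.IntAvg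
open Groth.GaloisBrauer.H13 (constGrp idx_mul)

variable {S : Scheme.{u}} {M : Type u} [Group M] {X : Over S}

attribute [local instance] constGrp

/-- The piece where a point has a given index. -/
abbrev pieceOf {T : Over S} (φ : T ⟶ TwC.const S M) (m : M) : T.left.Opens :=
  ⟨ConstPoints.idx φ ⁻¹' {m}, ConstPoints.isLocallyConstant_idx φ _⟩

lemma isOpenCover_pieceOf {T : Over S} (φ : T ⟶ TwC.const S M) :
    TopologicalSpace.IsOpenCover (pieceOf φ) :=
  .mk (top_le_iff.mp fun t _ => TopologicalSpace.Opens.mem_iSup.mpr ⟨ConstPoints.idx φ t, rfl⟩)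

lemma ext_pieces {T : Over S} (φ : T ⟶ TwC.const S M) {Y : Over S} {q q' : T ⟶ Y}
    (h : ∀ m, ConstPoints.pieceι T (pieceOf φ m) ≫ q = ConstPoints.pieceι T (pieceOf φ m) ≫ q') :
    q = q' :=
  Over.OverMorphism.ext ((T.left.openCoverOfIsOpenCover _ (isOpenCover_pieceOf φ)).hom_ext _ _
    fun m => congrArg CommaMorphism.left (h m))

lemma pieceι_comp {T : Over S} (φ : T ⟶ TwC.const S M) (m : M) :
    ConstPoints.pieceι T (pieceOf φ m) ≫ φ = toUnit _ ≫ TwC.pt S M m :=
  ConstPoints.eq_pt _ m fun t => by rw [ConstPoints.idx_comp]; exact t.2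

lemma exists_actPoint (r : M → (X ⟶ X)) {T : Over S} (φ : T ⟶ TwC.const S M) (x : T ⟶ X) :
    ∃ q : T ⟶ X, ∀ (T' : Over S) (j : T' ⟶ T) (m : M),
      (∀ t, ConstPoints.idx φ (j.left.base t) = m) → j ≫ q = j ≫ x ≫ r m := by
  let U : M → T.left.Opens := pieceOf φ
  let 𝒰 := T.left.openCoverOfIsOpenCover U (isOpenCover_pieceOf φ)
  let g : ∀ m : M, ↑(U m) ⟶ X.left := fun m => (U m).ι ≫ x.left ≫ (r m).left
  have hg : ∀ i j : M, pullback.fst (U i).ι (U j).ι ≫ g i = pullback.snd (U i).ι (U j).ι ≫ g j := by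
    intro i j
    rcases eq_or_ne i j with rfl | hij
    · rw [show pullback.fst (U i).ι (U i).ι = pullback.snd _ _ from (cancel_mono (U i).ι).mp pullback.condition]
    · haveI : IsEmpty ↑(pullback (U i).ι (U j).ι) := ⟨fun z => hij (by
        have hi : ConstPoints.idx φ ((U i).ι ((pullback.fst (U i).ι (U j).ι).base z)) = i := ((pullback.fst (U i).ι (U j).ι).base z).2
        have hj : ConstPoints.idx φ ((U j).ι ((pullback.snd (U i).ι (U j).ι).base z)) = j := ((pullback.snd (U i).ι (U j).ι).base z).2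
        exact hi.symm.trans ((congrArg (ConstPoints.idx φ) (congrArg (fun q => q.base z) (pullback.condition (f := (U i).ι) (g := (U j).ι)))).trans hj))⟩
      exact isInitialOfIsEmpty.hom_ext _ _
  have hw : 𝒰.glueMorphisms g hg ≫ X.hom = T.hom := 𝒰.hom_ext _ _ fun m => by
    refine (Category.assoc _ _ _).symm.trans ((congrArg (fun q => q ≫ X.hom) (𝒰.ι_glueMorphisms g hg m)).trans ?_)
    show ((U m).ι ≫ x.left ≫ (r m).left) ≫ X.hom = (U m).ι ≫ T.hom
    rw [Category.assoc, Category.assoc, Over.w (r m), Over.w x]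
  refine ⟨Over.homMk (𝒰.glueMorphisms g hg) hw, fun T' j m hj => ?_⟩
  have hr : Set.range j.left ⊆ Set.range (U m).ι := by
    rintro _ ⟨t, rfl⟩
    rw [Scheme.Opens.range_ι]
    exact hj t
  refine Over.OverMorphism.ext ?_
  show j.left ≫ 𝒰.glueMorphisms g hg = j.left ≫ x.left ≫ (r m).left
  rw [← IsOpenImmersion.lift_fac (U m).ι j.left hr, Category.assoc, Category.assoc]
  exact congrArg _ (𝒰.ι_glueMorphisms g hg m)

/-- The action of the constant group attached to an action of the abstract group. -/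
theorem exists_actionConst (r : M → (X ⟶ X)) (hr1 : r 1 = 𝟙 X)
    (hrmul : ∀ m n, r (m * n) = r n ≫ r m) :
    ∃ a : AlgGrp.Action (TwC.const S M) X, ∀ {T : Over S} (y : T ⟶ X),
      (TwC.const S M ◁ y) ≫ a.act = snd _ T ≫ y ↔ ∀ m, y ≫ r m = y := by
  obtain ⟨A, hA⟩ := exists_actPoint r (fst (TwC.const S M) X) (snd (TwC.const S M) X)
  have hdot : ∀ {T : Over S} (φ : T ⟶ TwC.const S M) (x : T ⟶ X) {T' : Over S} (j : T' ⟶ T) (m : M),
      (∀ t, ConstPoints.idx φ (j.left.base t) = m) → j ≫ lift φ x ≫ A = j ≫ x ≫ r m := by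
    intro T φ x T' j m hj
    rw [← Category.assoc, hA T' (j ≫ lift φ x) m fun t => by
      rw [← ConstPoints.idx_comp (j ≫ lift φ x), Category.assoc, lift_fst, ConstPoints.idx_comp]
      exact hj t, Category.assoc, lift_snd_assoc]
  have hone : ∀ {T : Over S} (x : T ⟶ X), lift (1 : T ⟶ TwC.const S M) x ≫ A = x := fun {T} x => by
    have h1 : ∀ t, ConstPoints.idx (1 : T ⟶ TwC.const S M) t = 1 := fun t => by
      have := idx_mul S M (1 : T ⟶ TwC.const S M) 1 t
      rw [_root_.mul_one (1 : T ⟶ TwC.const S M)] at this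
      exact left_eq_mul.mp this
    have h := hdot (1 : T ⟶ TwC.const S M) x (𝟙 T) 1 fun t => h1 _
    rwa [hr1, Category.id_comp, Category.id_comp, Category.comp_id] at h
  have hmul : ∀ {T : Over S} (φ ψ : T ⟶ TwC.const S M) (x : T ⟶ X),
      lift (φ * ψ) x ≫ A = lift φ (lift ψ x ≫ A) ≫ A := fun {T} φ ψ x => by
    refine ext_pieces φ fun m => ext_pieces (ConstPoints.pieceι T (pieceOf φ m) ≫ ψ) fun n => ?_
    set T₁ := ConstPoints.piece T (pieceOf φ m)
    set j₁ := ConstPoints.pieceι T (pieceOf φ m)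
    set j₂ := ConstPoints.pieceι T₁ (pieceOf (j₁ ≫ ψ) n)
    have h1 : ∀ t, ConstPoints.idx φ ((j₂ ≫ j₁).left.base t) = m := fun t => (j₂.left.base t).2
    have h2 : ∀ t, ConstPoints.idx ψ ((j₂ ≫ j₁).left.base t) = n := fun t => t.2
    rw [← Category.assoc j₂ j₁, ← Category.assoc j₂ j₁]
    rw [hdot (φ * ψ) x _ (m * n) (fun t => by rw [idx_mul, h1, h2]), hdot φ _ _ m h1, hrmul,
      ← Category.assoc (j₂ ≫ j₁) (lift ψ x ≫ A) (r m), hdot ψ x _ n h2]
    simp only [Category.assoc]
  let a : AlgGrp.Action (TwC.const S M) X :=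
    { act := A
      one_act := by
        have h : (η[TwC.const S M] ▷ X) = lift (1 : _ ⟶ TwC.const S M) (λ_ X).hom := by
          apply CartesianMonoidalCategory.hom_ext
          · rw [whiskerRight_fst, lift_fst, Hom.one_def]
            exact congrArg (· ≫ η[TwC.const S M]) (toUnit_unique _ _)
          · rw [whiskerRight_snd, lift_snd, leftUnitor_hom]
        rw [h, hone]
      mul_act := by
        have h1 : μ[TwC.const S M] ▷ X = lift ((fst _ X ≫ fst (TwC.const S M) (TwC.const S M)) *
            (fst _ X ≫ snd (TwC.const S M) (TwC.const S M))) (snd _ X) := by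
          apply CartesianMonoidalCategory.hom_ext
          · rw [whiskerRight_fst, lift_fst, ← MonObj.comp_mul, Hom.mul_def, lift_fst_snd, Category.id_comp]
          · rw [whiskerRight_snd, lift_snd]
        rw [h1, hmul, ← Category.assoc]
        congr 1
        apply CartesianMonoidalCategory.hom_ext
        · simp
        · rw [lift_snd, Category.assoc, whiskerLeft_snd, ← Category.assoc]
          congr 1
          apply CartesianMonoidalCategory.hom_ext <;> simp }
  refine ⟨a, fun {T} y => ⟨fun h m => ?_, fun h => ?_⟩⟩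
  · have h2 := congrArg (lift (toUnit T ≫ TwC.pt S M m) (𝟙 T) ≫ ·) h
    simp only [lift_whiskerLeft_assoc, lift_snd_assoc, Category.id_comp] at h2
    rw [show a.act = A from rfl] at h2
    have h3 := hdot (toUnit T ≫ TwC.pt S M m) y (𝟙 T) m fun t => ConstPoints.idx_pt m _
    rw [Category.id_comp, Category.id_comp] at h3
    exact h3.symm.trans h2
  · refine ext_pieces (fst _ T) fun m => ?_
    rw [show TwC.const S M ◁ y = lift (fst _ T) (snd _ T ≫ y) by ext1 <;> simp,
      show a.act = A from rfl, hdot (fst _ T) (snd _ T ≫ y) (ConstPoints.pieceι _ (pieceOf (fst _ T) m)) m (fun t => t.2), Category.assoc, h m]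

/-- Averaging over a finite group of invertible order. -/
theorem nonempty_integral_const [Finite M] (hM : IsUnit (Nat.card M : Γ(S, ⊤))) :
    Nonempty (Integral (TwC.const S M)) := by
  classical
  have := Fintype.ofFinite M
  obtain ⟨c, hc⟩ := hM.exists_left_inv
  let σ : ∀ (Y : Over S), M → (Y ⟶ TwC.const S M ⊗ Y) := fun Y m =>
    lift (toUnit Y ≫ TwC.pt S M m) (𝟙 Y)
  have hσsY : ∀ (Y : Over S) m (r : Γ(Y.left, ⊤)), (σ Y m).left.appTop (sY _ Y r) = r := fun Y m r => by
    show (σ Y m).left.appTop ((snd (TwC.const S M) Y).left.appTop r) = r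
    rw [← appTop_comp_apply, lift_snd]
    simp
  have hcc : ∀ {Y Y' : Over S} (g : Y' ⟶ Y), g.left.appTop (Y.hom.appTop c) = Y'.hom.appTop c :=
    fun g => congrArg (fun z => z.appTop c) (Over.w g)
  have hcard : ∀ (Y : Over S), Y.hom.appTop c * (Fintype.card M : Γ(Y.left, ⊤)) = 1 := fun Y => by
    rw [← map_natCast Y.hom.appTop.hom, ← map_mul, ← Nat.card_eq_fintype_card, hc, map_one]
  refine ⟨⟨?_, fun {Y} _ a => Y.hom.appTop c * ∑ m, (σ Y m).left.appTop a, fun {Y} _ a b => ?_,
    fun {Y} _ r => ?_, fun {Y} _ r a => ?_, fun {Y Y'} _ _ g a => ?_, fun {Y} _ h a => ?_⟩⟩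
  · haveI : IsFinite (TwC.const S M).hom :=
      Groth.Pi1Quot.isFinite_sigmaDesc (fun _ : M => 𝟙 S)
    infer_instance
  · simp [Finset.sum_add_distrib, _root_.mul_add]
  · simp only [hσsY, Finset.sum_const, Finset.card_univ, nsmul_eq_mul, ← _root_.mul_assoc, hcard,
      _root_.one_mul]
  · simp only [map_mul, hσsY, Finset.mul_sum]
    exact Finset.sum_congr rfl fun m _ => by ring
  · rw [map_mul, hcc, map_sum]
    refine congrArg (Y'.hom.appTop c * ·) (Finset.sum_congr rfl fun m _ => ?_)
    show (σ Y' m).left.appTop ((TwC.const S M ◁ g).left.appTop a) = g.left.appTop ((σ Y m).left.appTop a)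
    rw [← appTop_comp_apply, ← appTop_comp_apply]
    congr 4
    ext1
    · simp [σ, ← Category.assoc]
    · simp [σ]
  · congr 1
    rw [← sub_eq_zero]
    refine Scheme.zero_of_zero_cover _ (Y.left.openCoverOfIsOpenCover _ (isOpenCover_pieceOf h)) fun g' => ?_
    let g : M := g'
    let j := ConstPoints.pieceι Y (pieceOf h g)
    have key : ∀ m, j ≫ σ Y m ≫ Triv.th h = j ≫ σ Y (g * m) := fun m => by
      ext1
      · simp only [σ, Triv.th, Category.assoc, lift_fst, MonObj.comp_mul, lift_snd_assoc,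
          Category.id_comp, lift_fst, comp_toUnit_assoc]
        refine ConstPoints.ext (funext fun t => ?_)
        rw [idx_mul, ConstPoints.idx_comp]
        rw [ConstPoints.idx_pt, ConstPoints.idx_pt]
        exact congrArg (· * m) t.2
      · simp [σ, Triv.th]
    show j.left.appTop (_ - _) = 0
    rw [map_sub, map_sum, map_sum, sub_eq_zero]
    refine Fintype.sum_equiv (Equiv.mulLeft g) _ _ fun m => ?_
    rw [← appTop_comp_apply, ← appTop_comp_apply, ← appTop_comp_apply, Category.assoc, key]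
    rfl

/-- The scheme of points fixed by finitely many endomorphisms is of finite presentation. -/
theorem exists_closed_fixed [LocallyOfFiniteType X.hom] [IsSeparated X.hom] {κ : Type*}
    (r : κ → (X ⟶ X)) (s : Finset κ) :
    ∃ (Z : Over S) (c : Z ⟶ X), IsClosedImmersion c.left ∧ LocallyOfFinitePresentation c.left ∧
      ∀ (W : Over S) (x : W ⟶ X), (∃ z : W ⟶ Z, z ≫ c = x) ↔ ∀ m ∈ s, x ≫ r m = x := by
  classical
  induction s using Finset.induction with
  | empty =>
    exact ⟨X, 𝟙 X, inferInstanceAs (IsClosedImmersion (𝟙 X.left)),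
      inferInstanceAs (LocallyOfFinitePresentation (𝟙 X.left)), fun W x => by simp⟩
  | @insert g s _ ih =>
    obtain ⟨Z, c, hc, hcf, hu⟩ := ih
    obtain ⟨Z', c', hc', hcf', -, hu'⟩ := Groth.Reductive.HomScheme.exists_equalizer (c ≫ r g) c
    haveI := hcf' inferInstance
    refine ⟨Z', c' ≫ c, inferInstanceAs (IsClosedImmersion (c'.left ≫ c.left)),
      inferInstanceAs (LocallyOfFinitePresentation (c'.left ≫ c.left)), fun W x => ⟨?_, fun h => ?_⟩⟩
    · rintro ⟨z, rfl⟩ g' hg'
      rcases Finset.mem_insert.1 hg' with rfl | hg'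
      · have e := (hu' _ (z ≫ c')).1 ⟨z, rfl⟩
        simpa [Category.assoc] using e
      · exact (hu _ (z ≫ c' ≫ c)).1 ⟨z ≫ c', Category.assoc _ _ _⟩ g' hg'
    · obtain ⟨y, hy⟩ := (hu _ x).2 fun g' hg' => h g' (Finset.mem_insert_of_mem hg')
      obtain ⟨z, hz⟩ := (hu' _ y).2 (by
        have := h g (Finset.mem_insert_self g s)
        rw [← hy, Category.assoc] at this
        exact this)
      exact ⟨z, by rw [reassoc_of% hz, hy]⟩

end Groth.PRedWeil.ConstAvg
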