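import Groth.Agent.PRedWeil.Homeo

/-!
# Weil restriction along a finite locally free morphism of affine schemes

The Weil restriction exists as soon as every finite set of points of the scheme to be restricted lies
in an affine open.
-/

set_option autoImplicit false
set_option backward.isDefEq.respectTransparency.types false
universe u

open CategoryTheory Limits AlgebraicGeometry Opposite AlgSp Groth.AlgSpBasic

namespace Groth.PRedWeil.FiniteSets

noncomputable section

variable {S S' : Scheme.{u}} (f : S' ⟶ S) (X' : Over S')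

theorem isPullback_map_fst {Z T : Over S} (a : Z ⟶ T) :
    IsPullback ((Over.pullback f).map a).left (pullback.fst Z.hom f) (pullback.fst T.hom f) a.left := by
  have e1 : ((Over.pullback f).map a).left ≫ pullback.snd T.hom f = pullback.snd Z.hom f :=
    pullback.lift_snd _ _ _
  have e2 : ((Over.pullback f).map a).left ≫ pullback.fst T.hom f = pullback.fst Z.hom f ≫ a.left :=
    pullback.lift_fst _ _ _
  refine IsPullback.of_right ?_ e2 (IsPullback.of_hasPullback T.hom f).flip
  rw [e1, Over.w a]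
  exact (IsPullback.of_hasPullback Z.hom f).flip

/-- The open locus where a point of the Weil restriction lies in an open. -/
theorem exists_locus [IsFinite f] {T : Over S} (σ : (Over.pullback f).obj T ⟶ X') (U : X'.left.Opens) :
    ∃ W : T.left.Opens, (∀ (Z : Over S) (a : Z ⟶ T),
        Set.range a.left ⊆ W ↔ Set.range ((Over.pullback f).map a ≫ σ).left ⊆ U) ∧
      ∀ t, σ.left '' (pullback.fst T.hom f ⁻¹' {t}) ⊆ U → t ∈ W := by
  let p := pullback.fst T.hom f
  let C : Set ((Over.pullback f).obj T).left := (σ.left ⁻¹' (U : Set X'.left))ᶜ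
  refine ⟨⟨(p '' C)ᶜ, (p.isClosedMap _ (U.2.preimage σ.left.continuous).isClosed_compl).isOpen_compl⟩,
    fun Z a => ?_, fun t ht => ?_⟩
  · have sq := isPullback_map_fst f a
    have hcomm : ∀ z, p (((Over.pullback f).map a).left z) = a.left (pullback.fst Z.hom f z) := fun z =>
      congrArg (fun m : pullback Z.hom f ⟶ T.left => m z) (pullback.lift_fst _ _ _)
    constructor
    · rintro h _ ⟨z, rfl⟩
      by_contra hz
      exact h ⟨pullback.fst Z.hom f z, rfl⟩ ⟨_, hz, hcomm z⟩
    · rintro h _ ⟨z, rfl⟩ ⟨y, hy, hye⟩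
      obtain ⟨w, hw, -⟩ := Scheme.exists_preimage_of_isPullback sq y z hye
      exact hy (hw ▸ h ⟨w, rfl⟩)
  · rintro ⟨y, hy, hye⟩
    exact hy (ht ⟨y, hye, rfl⟩)

variable [IsAffine S] [IsFinite f] [Flat f] [LocallyOfFinitePresentation f]

/-- The piece of the Weil restriction at an affine open. -/
theorem exists_piece (U : X'.left.Opens) (hU : IsAffineOpen U) :
    ∃ (R : Over S) (σ : (Over.pullback f).obj R ⟶ X'), Set.range σ.left ⊆ U ∧
      (∀ (Z : Over S) (τ : (Over.pullback f).obj Z ⟶ X'), Set.range τ.left ⊆ U →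
        ∃ b : Z ⟶ R, (Over.pullback f).map b ≫ σ = τ) ∧
      ∀ (Z : Over S) (b b' : Z ⟶ R),
        (Over.pullback f).map b ≫ σ = (Over.pullback f).map b' ≫ σ → b = b' := by
  have : IsAffine U.toScheme := hU
  have : IsAffine S' := isAffine_of_isAffineHom f
  let Xi : Over S' := Over.mk (U.ι ≫ X'.hom)
  have : IsAffine Xi.left := hU
  have : IsAffineHom Xi.hom := isAffineHom_of_isAffine _
  obtain ⟨R, q₀, hq₀, -, -, -⟩ := exists_weilRes f Xi
  let j : Xi ⟶ X' := Over.homMk U.ι rfl
  refine ⟨R, q₀ ≫ j, ?_, fun Z τ hτ => ?_, fun Z b b' h => ?_⟩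
  · rintro _ ⟨z, rfl⟩
    exact (q₀.left z).2
  · have ht : Set.range τ.left ⊆ Set.range U.ι := by rwa [Scheme.Opens.range_ι]
    let τ₀ : (Over.pullback f).obj Z ⟶ Xi := Over.homMk (IsOpenImmersion.lift U.ι τ.left ht) (by
      show _ ≫ U.ι ≫ X'.hom = _
      rw [IsOpenImmersion.lift_fac_assoc, Over.w τ])
    obtain ⟨b, hb⟩ := (hq₀ Z).2 τ₀
    refine ⟨b, ?_⟩
    rw [← Category.assoc, show (Over.pullback f).map b ≫ q₀ = τ₀ from hb]
    exact Over.OverMorphism.ext (IsOpenImmersion.lift_fac _ _ _)
  · refine (hq₀ Z).1 (Over.OverMorphism.ext ((cancel_mono U.ι).mp ?_))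
    rw [← Category.assoc, ← Category.assoc] at h
    exact congrArg (fun m : (Over.pullback f).obj Z ⟶ X' => m.left) h

/-- Weil restrictions along finite locally free morphisms of affine schemes exist for schemes in
which every finite set of points lies in an affine open. -/
theorem exists_weilRes_of_finite_sets
    (hAF : ∀ Z : Set X'.left, Z.Finite → ∃ U : X'.left.Opens, IsAffineOpen U ∧ Z ⊆ U) :
    ∃ (R : Over S) (q : Red.bc f R ⟶ X'), WeilRes.IsWeilRes f X' R q := by
  let I := {U : X'.left.Opens // IsAffineOpen U}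
  choose R σ hσ hex hinj using fun i : I => exists_piece f X' i.1 i.2
  let F := fun i : I => smk f X' (σ i)
  have hpb : ∀ (i : I) (T : Over S) (g : (yon S).obj T ⟶ SS f X'),
      ∃ (W : T.left.Opens) (b : Over.mk (W.ι ≫ T.hom) ⟶ R i),
        (∀ t, (sval f X' g).left '' (pullback.fst T.hom f ⁻¹' {t}) ⊆ i.1 → t ∈ W) ∧
        IsPullback ((yon S).map b) ((yon S).map (Over.homMk W.ι rfl : Over.mk (W.ι ≫ T.hom) ⟶ T))
          (F i) g := by
    intro i T g
    obtain ⟨W, hW, hWy⟩ := exists_locus f X' (sval f X' g) i.1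
    let w : Over.mk (W.ι ≫ T.hom) ⟶ T := Over.homMk W.ι rfl
    obtain ⟨b, hb⟩ := hex i _ ((Over.pullback f).map w ≫ sval f X' g)
      ((hW _ w).mp (Scheme.Opens.range_ι W).subset)
    refine ⟨W, b, hWy, Groth.AlgSpBasic.isPullback_of_lifts ?_ (fun Z u v huv => ?_)
      (fun Z a a' _ h2 => ?_)⟩
    · apply (sval_bijective f X' _).1
      rw [sval_map, sval_map, sval_smk]
      exact hb
    · obtain ⟨u, rfl⟩ := (yon S).map_surjective u
      obtain ⟨v, rfl⟩ := (yon S).map_surjective v
      have h' := congrArg (sval f X') huv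
      rw [sval_map, sval_map, sval_smk] at h'
      have hv : Set.range v.left ⊆ W := (hW Z v).mpr (by
        rw [← h']
        rintro _ ⟨z, rfl⟩
        exact hσ i ⟨_, rfl⟩)
      let a : Z ⟶ Over.mk (W.ι ≫ T.hom) := Over.homMk
        (IsOpenImmersion.lift W.ι v.left (by rwa [Scheme.Opens.range_ι])) (by
          show _ ≫ W.ι ≫ T.hom = _
          rw [IsOpenImmersion.lift_fac_assoc]
          exact Over.w v)
      have hav : a ≫ w = v := Over.OverMorphism.ext (IsOpenImmersion.lift_fac _ _ _)
      refine ⟨(yon S).map a, ?_, ?_⟩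
      · rw [← Functor.map_comp]
        congr 1
        apply hinj i
        rw [Functor.map_comp, Category.assoc, hb, ← Category.assoc, ← Functor.map_comp, hav, h']
      · rw [← Functor.map_comp, hav]
    · obtain ⟨a, rfl⟩ := (yon S).map_surjective a
      obtain ⟨a', rfl⟩ := (yon S).map_surjective a'
      rw [← Functor.map_comp, ← Functor.map_comp] at h2
      congr 1
      exact Over.OverMorphism.ext ((cancel_mono W.ι).mp
        (congrArg (fun m : Z ⟶ T => m.left) ((yon S).map_injective h2)))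
  have hF : ∀ i, RepWith @IsOpenImmersion (F i) := by
    intro i
    have hrep : Representable (F i) := fun T g => by
      obtain ⟨W, b, -, sq⟩ := hpb i T g
      exact ⟨_, _, _, sq⟩
    refine ⟨hrep, fun T P g fst snd sq => ?_⟩
    obtain ⟨W, b, -, sq'⟩ := hpb i T g
    obtain ⟨φ, hφ⟩ := (yon S).map_surjective (sq.isoIsPullback _ _ sq').hom
    obtain ⟨ψ, hψ⟩ := (yon S).map_surjective (sq.isoIsPullback _ _ sq').inv
    have hφψ : IsIso φ := ⟨ψ, (yon S).map_injective (by
        rw [Functor.map_comp, hφ, hψ, Iso.hom_inv_id, CategoryTheory.Functor.map_id]),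
      (yon S).map_injective (by
        rw [Functor.map_comp, hφ, hψ, Iso.inv_hom_id, CategoryTheory.Functor.map_id])⟩
    have h : φ ≫ (Over.homMk W.ι rfl : Over.mk (W.ι ≫ T.hom) ⟶ T) = snd :=
      (yon S).map_injective (by
        rw [Functor.map_comp, hφ]
        exact IsPullback.isoIsPullback_hom_snd _ _ _ _)
    have : IsIso φ.left := (Over.forget S).map_isIso φ
    rw [← h]
    exact inferInstanceAs (IsOpenImmersion (φ.left ≫ W.ι))
  obtain ⟨G, ⟨Φ⟩⟩ := Groth.AlgSpBasic.exists_iso_yon_of_openImmersions hF fun T g t => by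
    obtain ⟨U, hU, hZU⟩ := hAF _ (((pullback.fst T.hom f).finite_preimage_singleton t).image
      (sval f X' g).left)
    obtain ⟨W, b, hWy, sq⟩ := hpb ⟨U, hU⟩ T g
    exact ⟨_, _, (yon S).map b, _, sq, ⟨⟨_, hWy t hZU⟩, rfl⟩⟩
  refine ⟨G, sval f X' Φ.hom, fun T => ?_⟩
  have h : WeilRes.restr f (sval f X' Φ.hom) T =
      (sval f X') ∘ (fun m => m ≫ Φ.hom) ∘ (yon S).map := funext fun g => (sval_map f X' g Φ.hom).symm
  rw [h]
  have h2 : Function.Bijective fun m : (yon S).obj T ⟶ (yon S).obj G => m ≫ Φ.hom :=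
    ⟨fun _ _ h => (cancel_mono Φ.hom).mp h, fun m => ⟨m ≫ Φ.inv, by simp⟩⟩
  exact (sval_bijective f X' T).comp (h2.comp ⟨(yon S).map_injective, (yon S).map_surjective⟩)

end

end Groth.PRedWeil.FiniteSets
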