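import Groth.Agent.PRedWeil.Rep
import Groth.Agent.AlgSpBasic.Glue
import Groth.Agent.AlgSpBasic.OpenSub
import Groth.Prelude.Def_Flat
import Groth.Prelude.Def_BigSite

/-! Weil restriction along a finite locally free universal homeomorphism. -/

set_option autoImplicit false
set_option backward.isDefEq.respectTransparency.types false
universe u

open CategoryTheory Limits AlgebraicGeometry Opposite AlgSp Groth.AlgSpBasic

namespace Groth.PRedWeil

noncomputable section

variable {S S' : Scheme.{u}} (f : S' ⟶ S) (hf : FlatMor.IsUnivHomeo f)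

include hf in
theorem isHomeomorph_fst (T : Over S) : IsHomeomorph ⇑(pullback.fst T.hom f) :=
  hf _ _ _ (IsPullback.of_hasPullback T.hom f)

variable (X' : Over S')

/-- The Weil restriction sheaf. -/
abbrev SS : Sp S := (BigSite.pushBig Scheme.fppfPrecoverage f (Type (u + 1))).obj ((yon S').obj X')

/-- The point of the Weil restriction sheaf given by a morphism. -/
def sval {T : Over S} (g : (yon S).obj T ⟶ SS f X') : (Over.pullback f).obj T ⟶ X' :=
  (yEquiv g).down

/-- The morphism to the Weil restriction sheaf given by a point. -/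
def smk {T : Over S} (σ : (Over.pullback f).obj T ⟶ X') : (yon S).obj T ⟶ SS f X' :=
  yEquiv.symm (ULift.up σ)

theorem sval_smk {T : Over S} (σ : (Over.pullback f).obj T ⟶ X') : sval f X' (smk f X' σ) = σ :=
  congrArg ULift.down (Equiv.apply_symm_apply yEquiv _)

theorem sval_bijective (T : Over S) :
    Function.Bijective (sval f X' : ((yon S).obj T ⟶ SS f X') → _) :=
  ⟨fun _ _ h => yEquiv.injective (ULift.ext _ _ h), fun σ => ⟨smk f X' σ, sval_smk f X' σ⟩⟩

theorem sval_map {Z T : Over S} (a : Z ⟶ T) (g : (yon S).obj T ⟶ SS f X') :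
    sval f X' ((yon S).map a ≫ g) = (Over.pullback f).map a ≫ sval f X' g :=
  congrArg ULift.down ((J S).uliftYonedaEquiv_naturality g a).symm

section Chart

variable [IsFinite f] [Flat f] [LocallyOfFinitePresentation f]
  (V : S.Opens) (hV : IsAffineOpen V) (U : X'.left.Opens) (hU : IsAffineOpen U)
  (hUV : U ≤ (X'.hom ≫ f) ⁻¹ᵁ V)

/-- Base change over an open of the base. -/
def restrIso (Z : Over V.toScheme) :
    ((Over.pullback (f ∣_ V)).obj Z).left ≅ ((Over.pullback f).obj ((Over.map V.ι).obj Z)).left :=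
  ((IsPullback.of_hasPullback Z.hom (f ∣_ V)).flip.paste_horiz
    (isPullback_morphismRestrict f V).flip).flip.isoPullback

omit [IsFinite f] [Flat f] [LocallyOfFinitePresentation f] in
theorem restrIso_hom_fst (Z : Over V.toScheme) :
    (restrIso f V Z).hom ≫ pullback.fst (Z.hom ≫ V.ι) f = pullback.fst Z.hom (f ∣_ V) :=
  IsPullback.isoPullback_hom_fst _

omit [IsFinite f] [Flat f] [LocallyOfFinitePresentation f] in
theorem restrIso_hom_snd (Z : Over V.toScheme) :
    (restrIso f V Z).hom ≫ pullback.snd (Z.hom ≫ V.ι) f =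
      pullback.snd Z.hom (f ∣_ V) ≫ (f ⁻¹ᵁ V).ι :=
  IsPullback.isoPullback_hom_snd _

omit [IsFinite f] [Flat f] [LocallyOfFinitePresentation f] in
theorem restrIso_natural {Z R : Over V.toScheme} (a : Z ⟶ R) :
    (restrIso f V Z).hom ≫ ((Over.pullback f).map ((Over.map V.ι).map a)).left =
      ((Over.pullback (f ∣_ V)).map a).left ≫ (restrIso f V R).hom := by
  apply pullback.hom_ext
  · refine (Category.assoc _ _ _).trans ?_
    refine (congrArg ((restrIso f V Z).hom ≫ ·) (pullback.lift_fst _ _ _)).trans ?_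
    refine (Category.assoc _ _ _).symm.trans ?_
    refine (congrArg (· ≫ a.left) (restrIso_hom_fst f V Z)).trans ?_
    refine Eq.trans ?_ (Category.assoc _ _ _).symm
    refine Eq.trans ?_ (congrArg (((Over.pullback (f ∣_ V)).map a).left ≫ ·)
      (restrIso_hom_fst f V R)).symm
    exact (pullback.lift_fst _ _ _).symm
  · refine (Category.assoc _ _ _).trans ?_
    refine (congrArg ((restrIso f V Z).hom ≫ ·) (pullback.lift_snd _ _ _)).trans ?_
    refine (restrIso_hom_snd f V Z).trans ?_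
    refine Eq.trans ?_ (Category.assoc _ _ _).symm
    refine Eq.trans ?_ (congrArg (((Over.pullback (f ∣_ V)).map a).left ≫ ·)
      (restrIso_hom_snd f V R)).symm
    refine Eq.trans ?_ (Category.assoc _ _ _)
    exact congrArg (· ≫ (f ⁻¹ᵁ V).ι) (pullback.lift_snd _ _ _).symm

include hf hV hU hUV in
/-- The piece of the Weil restriction over an affine open. -/
theorem exists_piece :
    ∃ (R : Over S) (σ : (Over.pullback f).obj R ⟶ X'), Set.range σ.left ⊆ U ∧
      (∀ (Z : Over S) (τ : (Over.pullback f).obj Z ⟶ X'), Set.range τ.left ⊆ U →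
        ∃ b : Z ⟶ R, (Over.pullback f).map b ≫ σ = τ) ∧
      ∀ (Z : Over S) (b b' : Z ⟶ R),
        (Over.pullback f).map b ≫ σ = (Over.pullback f).map b' ≫ σ → b = b' := by
  have : IsAffine V.toScheme := hV
  have : IsAffine U.toScheme := hU
  have : IsAffine (f ⁻¹ᵁ V).toScheme := hV.preimage f
  have hsq := (isPullback_morphismRestrict f V).flip
  have : IsFinite (f ∣_ V) := MorphismProperty.of_isPullback hsq ‹IsFinite f›
  have : Flat (f ∣_ V) := MorphismProperty.of_isPullback hsq ‹Flat f›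
  have : LocallyOfFinitePresentation (f ∣_ V) :=
    MorphismProperty.of_isPullback hsq ‹LocallyOfFinitePresentation f›
  have hU' : Set.range (U.ι ≫ X'.hom) ⊆ Set.range (f ⁻¹ᵁ V).ι := by
    rw [Scheme.Opens.range_ι]
    rintro _ ⟨y, rfl⟩
    exact hUV y.2
  let Xi : Over (f ⁻¹ᵁ V).toScheme := Over.mk (IsOpenImmersion.lift (f ⁻¹ᵁ V).ι (U.ι ≫ X'.hom) hU')
  have : IsAffine Xi.left := hU
  have : IsAffineHom Xi.hom := isAffineHom_of_isAffine _
  obtain ⟨R₀, q₀, hq₀, -, -, -⟩ := exists_weilRes (f ∣_ V) Xi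
  let σ : (Over.pullback f).obj ((Over.map V.ι).obj R₀) ⟶ X' :=
    Over.homMk ((restrIso f V R₀).inv ≫ q₀.left ≫ U.ι) (by
      rw [← cancel_epi (restrIso f V R₀).hom, Category.assoc, Category.assoc, Iso.hom_inv_id_assoc]
      refine Eq.trans ?_ (restrIso_hom_snd f V R₀).symm
      rw [← IsOpenImmersion.lift_fac (f ⁻¹ᵁ V).ι (U.ι ≫ X'.hom) hU', ← Category.assoc]
      exact congrArg (· ≫ (f ⁻¹ᵁ V).ι) (Over.w q₀))
  have hσ : ∀ {Z : Over V.toScheme} (b : Z ⟶ R₀),
      (restrIso f V Z).hom ≫ ((Over.pullback f).map ((Over.map V.ι).map b) ≫ σ).left =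
        (WeilRes.restr (f ∣_ V) q₀ Z b).left ≫ U.ι := fun {Z} b => by
    refine (Category.assoc _ _ _).symm.trans ?_
    refine (congrArg (· ≫ σ.left) (restrIso_natural f V b)).trans ?_
    show (_ ≫ (restrIso f V R₀).hom) ≫ (restrIso f V R₀).inv ≫ q₀.left ≫ U.ι = (_ ≫ q₀.left) ≫ U.ι
    simp
  refine ⟨_, σ, ?_, fun Z τ hτ => ?_, fun Z b b' h => ?_⟩
  · rintro _ ⟨z, rfl⟩
    exact (q₀.left ((restrIso f V R₀).inv z)).2
  · have hZV : Set.range Z.hom ⊆ Set.range V.ι := by
      rw [Scheme.Opens.range_ι]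
      rintro _ ⟨z, rfl⟩
      obtain ⟨y, rfl⟩ := (isHomeomorph_fst f hf Z).surjective z
      have h1 : pullback.fst Z.hom f ≫ Z.hom = τ.left ≫ X'.hom ≫ f := by
        rw [← Category.assoc, Over.w τ]; exact pullback.condition
      have h2 := congrArg (fun m : pullback Z.hom f ⟶ S => m y) h1
      exact (show Z.hom (pullback.fst Z.hom f y) = f (X'.hom (τ.left y)) from h2) ▸ hUV (hτ ⟨y, rfl⟩)
    let Z₀ : Over V.toScheme := Over.mk (IsOpenImmersion.lift V.ι Z.hom hZV)
    let j : (Over.map V.ι).obj Z₀ ≅ Z := Over.isoMk (Iso.refl Z.left) (by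
      show 𝟙 _ ≫ Z.hom = _ ≫ V.ι
      rw [Category.id_comp]; exact (IsOpenImmersion.lift_fac _ _ _).symm)
    let t := (restrIso f V Z₀).hom ≫ ((Over.pullback f).map j.hom ≫ τ).left
    have ht : Set.range t ⊆ Set.range U.ι := by
      rw [Scheme.Opens.range_ι]
      rintro _ ⟨z, rfl⟩
      exact hτ ⟨_, rfl⟩
    let τ₀ : (Over.pullback (f ∣_ V)).obj Z₀ ⟶ Xi := Over.homMk (IsOpenImmersion.lift U.ι t ht) (by
      rw [← cancel_mono (f ⁻¹ᵁ V).ι, Category.assoc,
        show Xi.hom ≫ (f ⁻¹ᵁ V).ι = U.ι ≫ X'.hom from IsOpenImmersion.lift_fac _ _ _, ← Category.assoc,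
        IsOpenImmersion.lift_fac]
      show ((restrIso f V Z₀).hom ≫ ((Over.pullback f).map j.hom ≫ τ).left) ≫ X'.hom = _
      rw [Category.assoc, Over.w ((Over.pullback f).map j.hom ≫ τ)]
      exact restrIso_hom_snd f V Z₀)
    obtain ⟨b, hb⟩ := (hq₀ Z₀).2 τ₀
    refine ⟨j.inv ≫ (Over.map V.ι).map b, ?_⟩
    rw [← cancel_epi ((Over.pullback f).map j.hom), ← Functor.map_comp_assoc, Iso.hom_inv_id_assoc]
    refine Over.OverMorphism.ext ((cancel_epi (restrIso f V Z₀).hom).mp ?_)
    rw [hσ, hb]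
    exact IsOpenImmersion.lift_fac _ _ _
  · let Z₀ : Over V.toScheme := Over.mk (b.left ≫ R₀.hom)
    let j : (Over.map V.ι).obj Z₀ ≅ Z := Over.isoMk (Iso.refl Z.left) (by
      show 𝟙 _ ≫ Z.hom = (b.left ≫ R₀.hom) ≫ V.ι
      rw [Category.id_comp, Category.assoc]; exact (Over.w b).symm)
    let b₀ : Z₀ ⟶ R₀ := Over.homMk b.left rfl
    let b₁ : Z₀ ⟶ R₀ := Over.homMk b'.left (by
      rw [← cancel_mono V.ι]
      show (b'.left ≫ R₀.hom) ≫ V.ι = (b.left ≫ R₀.hom) ≫ V.ι
      rw [Category.assoc, Category.assoc]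
      exact (Over.w b').trans (Over.w b).symm)
    have e0 : (Over.map V.ι).map b₀ = j.hom ≫ b := Over.OverMorphism.ext (Category.id_comp _).symm
    have e1 : (Over.map V.ι).map b₁ = j.hom ≫ b' := Over.OverMorphism.ext (Category.id_comp _).symm
    have : b₀ = b₁ := (hq₀ Z₀).1 (Over.OverMorphism.ext ((cancel_mono U.ι).mp (by
      rw [← hσ, ← hσ, e0, e1, Functor.map_comp, Functor.map_comp, Category.assoc, Category.assoc, h])))
    exact Over.OverMorphism.ext (congrArg (fun m : Z₀ ⟶ R₀ => m.left) this)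

end Chart

include hf in
/-- The open locus where a point of the Weil restriction lies in an open. -/
theorem exists_locus {T : Over S} (σ : (Over.pullback f).obj T ⟶ X') (U : X'.left.Opens) :
    ∃ W : T.left.Opens, (∀ (Z : Over S) (a : Z ⟶ T),
        Set.range a.left ⊆ W ↔ Set.range ((Over.pullback f).map a ≫ σ).left ⊆ U) ∧
      ∀ y, σ.left y ∈ U → pullback.fst T.hom f y ∈ W := by
  refine ⟨⟨pullback.fst T.hom f '' (σ.left ⁻¹' U),
    (isHomeomorph_fst f hf T).isOpenMap _ (U.2.preimage σ.left.continuous)⟩, fun Z a => ?_,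
    fun y hy => ⟨y, hy, rfl⟩⟩
  have hcomm : ∀ z, pullback.fst T.hom f (((Over.pullback f).map a).left z) =
      a.left (pullback.fst Z.hom f z) := fun z =>
    congrArg (fun m : pullback Z.hom f ⟶ T.left => m z) (pullback.lift_fst _ _ _)
  constructor
  · rintro h _ ⟨z, rfl⟩
    obtain ⟨y, hy, hye⟩ := h ⟨pullback.fst Z.hom f z, rfl⟩
    have := (isHomeomorph_fst f hf T).injective (hye.trans (hcomm z).symm)
    subst this
    exact hy
  · rintro h _ ⟨x, rfl⟩
    obtain ⟨z, rfl⟩ := (isHomeomorph_fst f hf Z).surjective x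
    exact ⟨((Over.pullback f).map a).left z, h ⟨z, rfl⟩, hcomm z⟩

include hf in
/-- Weil restrictions along finite locally free universal homeomorphisms exist. -/
theorem exists_weilRes_of_isUnivHomeo [IsFinite f] [Flat f] [LocallyOfFinitePresentation f] :
    ∃ (R : Over S) (q : Red.bc f R ⟶ X'), WeilRes.IsWeilRes f X' R q := by
  let I := {p : S.Opens × X'.left.Opens // IsAffineOpen p.1 ∧ IsAffineOpen p.2 ∧
    p.2 ≤ (X'.hom ≫ f) ⁻¹ᵁ p.1}
  choose R σ hσ hex hinj using fun i : I =>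
    exists_piece f hf X' i.1.1 i.2.1 i.1.2 i.2.2.1 i.2.2.2
  let F := fun i : I => smk f X' (σ i)
  have hpb : ∀ (i : I) (T : Over S) (g : (yon S).obj T ⟶ SS f X'),
      ∃ (W : T.left.Opens) (b : Over.mk (W.ι ≫ T.hom) ⟶ R i),
        (∀ y, (sval f X' g).left y ∈ i.1.2 → pullback.fst T.hom f y ∈ W) ∧
        IsPullback ((yon S).map b) ((yon S).map (Over.homMk W.ι rfl : Over.mk (W.ι ≫ T.hom) ⟶ T))
          (F i) g := by
    intro i T g
    obtain ⟨W, hW, hWy⟩ := exists_locus f hf X' (sval f X' g) i.1.2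
    let w : Over.mk (W.ι ≫ T.hom) ⟶ T := Over.homMk W.ι rfl
    obtain ⟨b, hb⟩ := hex i _ ((Over.pullback f).map w ≫ sval f X' g)
      ((hW _ w).mp (Scheme.Opens.range_ι W).subset)
    refine ⟨W, b, hWy, Groth.AlgSpBasic.isPullback_of_lifts ?_ (fun Z u v huv => ?_)
      (fun Z a a' _ h2 => ?_)⟩
    · apply (sval_bijective f X' _).1
      rw [sval_map, sval_map, sval_smk]
      exact hb
    · obtain ⟨u, rfl⟩ := (yon S).map_surjective u
      obtain ⟨v, rfl⟩ := (yon S).map_surjective v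
      have h' := congrArg (sval f X') huv
      rw [sval_map, sval_map, sval_smk] at h'
      have hv : Set.range v.left ⊆ W := (hW Z v).mpr (by
        rw [← h']
        rintro _ ⟨z, rfl⟩
        exact hσ i ⟨_, rfl⟩)
      let a : Z ⟶ Over.mk (W.ι ≫ T.hom) := Over.homMk
        (IsOpenImmersion.lift W.ι v.left (by rwa [Scheme.Opens.range_ι])) (by
          show _ ≫ W.ι ≫ T.hom = _
          rw [IsOpenImmersion.lift_fac_assoc]
          exact Over.w v)
      have hav : a ≫ w = v := Over.OverMorphism.ext (IsOpenImmersion.lift_fac _ _ _)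
      refine ⟨(yon S).map a, ?_, ?_⟩
      · rw [← Functor.map_comp]
        congr 1
        apply hinj i
        rw [Functor.map_comp, Category.assoc, hb, ← Category.assoc, ← Functor.map_comp, hav, h']
      · rw [← Functor.map_comp, hav]
    · obtain ⟨a, rfl⟩ := (yon S).map_surjective a
      obtain ⟨a', rfl⟩ := (yon S).map_surjective a'
      rw [← Functor.map_comp, ← Functor.map_comp] at h2
      congr 1
      exact Over.OverMorphism.ext ((cancel_mono W.ι).mp
        (congrArg (fun m : Z ⟶ T => m.left) ((yon S).map_injective h2)))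
  have hF : ∀ i, RepWith @IsOpenImmersion (F i) := by
    intro i
    have hrep : Representable (F i) := fun T g => by
      obtain ⟨W, b, -, sq⟩ := hpb i T g
      exact ⟨_, _, _, sq⟩
    refine ⟨hrep, fun T P g fst snd sq => ?_⟩
    obtain ⟨W, b, -, sq'⟩ := hpb i T g
    obtain ⟨φ, hφ⟩ := (yon S).map_surjective (sq.isoIsPullback _ _ sq').hom
    obtain ⟨ψ, hψ⟩ := (yon S).map_surjective (sq.isoIsPullback _ _ sq').inv
    have hφψ : IsIso φ := ⟨ψ, (yon S).map_injective (by
        rw [Functor.map_comp, hφ, hψ, Iso.hom_inv_id, CategoryTheory.Functor.map_id]),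
      (yon S).map_injective (by
        rw [Functor.map_comp, hφ, hψ, Iso.inv_hom_id, CategoryTheory.Functor.map_id])⟩
    have h : φ ≫ (Over.homMk W.ι rfl : Over.mk (W.ι ≫ T.hom) ⟶ T) = snd :=
      (yon S).map_injective (by
        rw [Functor.map_comp, hφ]
        exact IsPullback.isoIsPullback_hom_snd _ _ _ _)
    have : IsIso φ.left := (Over.forget S).map_isIso φ
    rw [← h]
    exact inferInstanceAs (IsOpenImmersion (φ.left ≫ W.ι))
  obtain ⟨G, ⟨Φ⟩⟩ := Groth.AlgSpBasic.exists_iso_yon_of_openImmersions hF fun T g t => by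
    obtain ⟨y, rfl⟩ := (isHomeomorph_fst f hf T).surjective t
    let x := (sval f X' g).left y
    obtain ⟨V, hV, hxV, -⟩ := exists_isAffineOpen_mem_and_subset (X := S)
      (x := (X'.hom ≫ f) x) (U := ⊤) trivial
    obtain ⟨U, hU, hxU, hUV⟩ := exists_isAffineOpen_mem_and_subset (X := X'.left) (x := x)
      (U := (X'.hom ≫ f) ⁻¹ᵁ V) hxV
    obtain ⟨W, b, hWy, sq⟩ := hpb ⟨(V, U), hV, hU, hUV⟩ T g
    exact ⟨_, _, (yon S).map b, _, sq, ⟨⟨_, hWy y hxU⟩, rfl⟩⟩
  refine ⟨G, sval f X' Φ.hom, fun T => ?_⟩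
  have h : WeilRes.restr f (sval f X' Φ.hom) T =
      (sval f X') ∘ (fun m => m ≫ Φ.hom) ∘ (yon S).map := funext fun g => (sval_map f X' g Φ.hom).symm
  rw [h]
  have h2 : Function.Bijective fun m : (yon S).obj T ⟶ (yon S).obj G => m ≫ Φ.hom :=
    ⟨fun _ _ h => (cancel_mono Φ.hom).mp h, fun m => ⟨m ≫ Φ.inv, by simp⟩⟩
  exact (sval_bijective f X' T).comp (h2.comp ⟨(yon S).map_injective, (yon S).map_surjective⟩)

end

end Groth.PRedWeil
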