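import Groth.Prelude.Def_WeilRes
import Groth.Agent.Reductive.HomScheme.Apps

/-! Existence of Weil restrictions of affine schemes along finite locally free morphisms. -/

set_option autoImplicit false
universe u

open CategoryTheory MonoidalCategory CartesianMonoidalCategory AlgebraicGeometry
open Groth.Reductive.HomScheme

namespace Groth.PRedWeil

variable {S S' : Scheme.{u}} (f : S' ⟶ S)

/-- Natural bijections give a Weil restriction in the sense of the binder. -/
theorem isWeilRes_of_equiv {X' : Over S'} {R : Over S}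
    (e : ∀ T : Over S, (T ⟶ R) ≃ ((Over.pullback f).obj T ⟶ X'))
    (he : ∀ (T U : Over S) (h : T ⟶ U) (g : U ⟶ R),
      e T (h ≫ g) = (Over.pullback f).map h ≫ e U g) :
    WeilRes.IsWeilRes f X' R (e R (𝟙 R)) := fun T => by
  have h : WeilRes.restr f (e R (𝟙 R)) T = e T := funext fun g => by
    rw [WeilRes.restr_apply, ← he, Category.comp_id]
  exact h ▸ (e T).bijective

/-- Transport of a Weil restriction along isomorphisms. -/
theorem isWeilRes_iso {X' Y' : Over S'} {R P : Over S} {q : Red.bc f R ⟶ X'}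
    (h : WeilRes.IsWeilRes f X' R q) (a : X' ≅ Y') (b : P ≅ R) :
    WeilRes.IsWeilRes f Y' P ((Over.pullback f).map b.hom ≫ q ≫ a.hom) := fun T => by
  have e : WeilRes.restr f ((Over.pullback f).map b.hom ≫ q ≫ a.hom) T =
      (fun x => x ≫ a.hom) ∘ WeilRes.restr f q T ∘ (fun g => g ≫ b.hom) := funext fun g => by
    simp [WeilRes.restr]
  rw [e]
  refine (Function.Bijective.comp ?_ ((h T).comp ?_))
  · exact ⟨fun x y hxy => (cancel_mono a.hom).mp hxy, fun y => ⟨y ≫ a.inv, by simp⟩⟩
  · exact ⟨fun x y hxy => (cancel_mono b.hom).mp hxy, fun y => ⟨y ≫ b.inv, by simp⟩⟩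

/-- Two Weil restrictions of the same scheme are compared by an isomorphism. -/
theorem exists_iso_of_isWeilRes {X' : Over S'} {R P : Over S} {q : Red.bc f R ⟶ X'}
    {p : Red.bc f P ⟶ X'} (hR : WeilRes.IsWeilRes f X' R q) (hP : WeilRes.IsWeilRes f X' P p) :
    ∃ i : R ≅ P, (Over.pullback f).map i.hom ≫ p = q := by
  obtain ⟨g, hg⟩ := (hP R).2 q
  obtain ⟨g', hg'⟩ := (hR P).2 p
  rw [WeilRes.restr_apply] at hg hg'
  refine ⟨⟨g, g', (hR R).1 ?_, (hP P).1 ?_⟩, hg⟩
  · simp only [WeilRes.restr_apply, Functor.map_comp, Category.assoc, hg', hg]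
    exact ((congrArg (· ≫ q) ((Over.pullback f).map_id R)).trans (Category.id_comp q)).symm
  · simp only [WeilRes.restr_apply, Functor.map_comp, Category.assoc, hg', hg]
    exact ((congrArg (· ≫ p) ((Over.pullback f).map_id P)).trans (Category.id_comp p)).symm

/-- The swap `S' ×_S T ≅ T ×_S S'`. -/
noncomputable def flipIso (T : Over S) : (Over.mk f ⊗ T).left ≅ (Red.bc f T).left :=
  Limits.pullbackSymmetry f T.hom

theorem flipIso_natural {T A : Over S} (u : T ⟶ A) :
    ((flipIso f T).hom ≫ ((Over.pullback f).map u).left) ≫ (flipIso f A).inv =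
      (Over.mk f ◁ u).left := by
  rw [Iso.comp_inv_eq]
  apply Limits.pullback.hom_ext
  · simp only [flipIso, Category.assoc]
    erw [Limits.pullback.lift_fst, Limits.pullbackSymmetry_hom_comp_fst]
    rw [← Category.assoc]
    erw [Limits.pullbackSymmetry_hom_comp_fst]
    exact (Over.whiskerLeft_left_snd u).symm
  · simp only [flipIso, Category.assoc]
    erw [Limits.pullback.lift_snd, Limits.pullbackSymmetry_hom_comp_snd]
    rw [Limits.pullbackSymmetry_hom_comp_snd]
    exact (Over.whiskerLeft_left_fst (R := Over.mk f) u).symm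

/-- Weil restrictions of affine schemes along finite locally free morphisms exist. -/
theorem exists_weilRes (X' : Over S') [IsFinite f] [Flat f] [LocallyOfFinitePresentation f]
    [IsAffineHom X'.hom] :
    ∃ (R : Over S) (q : Red.bc f R ⟶ X'), WeilRes.IsWeilRes f X' R q ∧ IsAffineHom R.hom ∧
      (LocallyOfFiniteType X'.hom → LocallyOfFiniteType R.hom) ∧
      (LocallyOfFinitePresentation X'.hom → LocallyOfFinitePresentation R.hom) := by
  let X : Over S := Over.mk f
  let Y : Over S := (Over.map f).obj X'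
  let π : Y ⟶ X := Over.homMk X'.hom rfl
  have : IsFinite X.hom := ‹IsFinite f›
  have : Flat X.hom := ‹Flat f›
  have : LocallyOfFinitePresentation X.hom := ‹LocallyOfFinitePresentation f›
  have : IsAffineHom Y.hom := inferInstanceAs (IsAffineHom (X'.hom ≫ f))
  have : IsAffineHom X.hom := inferInstanceAs (IsAffineHom f)
  obtain ⟨M, ev, hMa, hM, hMt, hMp⟩ := exists_homScheme X Y
  obtain ⟨M₂, ev₂, hM₂a, hM₂, hM₂t, hM₂p⟩ := exists_homScheme X X
  obtain ⟨α, hα, -⟩ := hM₂ M (ev ≫ π)
  obtain ⟨β, hβ, -⟩ := hM₂ M (fst X M)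
  have key : ∀ (T : Over S) (v : T ⟶ M), v ≫ α = v ≫ β ↔ (X ◁ v) ≫ ev ≫ π = fst X T := by
    intro T v
    rw [← hα, ← whiskerLeft_comp_assoc]
    constructor
    · intro h
      rw [h, whiskerLeft_comp_assoc, hβ, whiskerLeft_fst]
    · intro h
      refine IsHomScheme.ext hM₂ ?_
      rw [h, whiskerLeft_comp_assoc, hβ, whiskerLeft_fst]
  obtain ⟨A, ι₀, hci, hlfp, heq, huniv⟩ := exists_equalizer α β
  have hw := (key A ι₀).mp heq
  let q : Red.bc f A ⟶ X' := Over.homMk ((flipIso f A).inv ≫ ((X ◁ ι₀) ≫ ev).left) (by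
    have h1 := congrArg (fun z => z.left) hw
    simp only [Over.comp_left, ← Category.assoc] at h1
    show ((flipIso f A).inv ≫ ((X ◁ ι₀) ≫ ev).left) ≫ π.left = Limits.pullback.snd A.hom f
    rw [Category.assoc, Over.comp_left, h1]
    exact Limits.pullbackSymmetry_inv_comp_fst _ _)
  refine ⟨A, q, fun T => ⟨?_, ?_⟩, ?_, fun h => ?_, fun h => ?_⟩
  · intro g g' hg
    have h1 : (X ◁ g) ≫ (X ◁ ι₀) ≫ ev = (X ◁ g') ≫ (X ◁ ι₀) ≫ ev := by
      have h2 := congrArg (fun z => (flipIso f T).hom ≫ z.left) hg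
      have hn : ∀ u : T ⟶ A, (flipIso f T).hom ≫ (WeilRes.restr f q T u).left =
          ((X ◁ u) ≫ (X ◁ ι₀) ≫ ev).left := by
        intro u
        show _ ≫ ((Over.pullback f).map u).left ≫ (flipIso f A).inv ≫ _ = _
        rw [← Category.assoc, ← Category.assoc]
        exact congrArg (· ≫ ((X ◁ ι₀) ≫ ev).left) (flipIso_natural f u)
      simp only [hn] at h2
      exact Over.OverMorphism.ext h2
    rw [← whiskerLeft_comp_assoc, ← whiskerLeft_comp_assoc] at h1
    exact Over.OverMorphism.ext ((cancel_mono ι₀.left).mp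
      (congrArg (fun z => z.left) (IsHomScheme.ext hM h1)))
  · intro φ
    let ψ : X ⊗ T ⟶ Y := Over.homMk ((flipIso f T).hom ≫ φ.left) (by
      show ((flipIso f T).hom ≫ φ.left) ≫ X'.hom ≫ f = _
      rw [Category.assoc, ← Category.assoc φ.left, Over.w φ]
      show (flipIso f T).hom ≫ Limits.pullback.snd T.hom f ≫ f = _
      rw [← Category.assoc]
      simp [flipIso, X])
    obtain ⟨v, hv, -⟩ := hM T ψ
    have hψ : ψ ≫ π = fst X T := by
      refine Over.OverMorphism.ext ?_
      show ((flipIso f T).hom ≫ φ.left) ≫ X'.hom = _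
      rw [Category.assoc, Over.w φ]
      show (flipIso f T).hom ≫ Limits.pullback.snd T.hom f = _
      simp [flipIso, X]
    obtain ⟨w, hw'⟩ := (huniv T v).mpr ((key T v).mpr (by rw [← hψ, ← hv, Category.assoc]))
    refine ⟨w, Over.OverMorphism.ext ?_⟩
    rw [← cancel_epi (flipIso f T).hom]
    refine Eq.trans ?_ (congrArg (fun z => z.left) hv)
    show _ ≫ ((Over.pullback f).map w).left ≫ (flipIso f A).inv ≫ _ = _
    rw [← hw', whiskerLeft_comp, Category.assoc, ← Category.assoc, ← Category.assoc]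
    exact congrArg (· ≫ ((X ◁ ι₀) ≫ ev).left) (flipIso_natural f w)
  · rw [← Over.w ι₀]; infer_instance
  · have : LocallyOfFiniteType Y.hom := inferInstanceAs (LocallyOfFiniteType (X'.hom ≫ f))
    have := hMt this
    rw [← Over.w ι₀]; infer_instance
  · have : LocallyOfFinitePresentation Y.hom :=
      inferInstanceAs (LocallyOfFinitePresentation (X'.hom ≫ f))
    have := hMp this
    have := hlfp (hM₂t inferInstance)
    rw [← Over.w ι₀]; infer_instance

end Groth.PRedWeil
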